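import Cfsg.Agent.Lib.J4Recog76.Reduce
import Cfsg.Agent.Lib.J4Local.RowsK
import Cfsg.Agent.S1265
import Cfsg.Prelude.Def_MonsterType

/-!
# The hypotheses of S5585 give Janko-four type

The hypotheses are brought to those of S1646: `M` is the preimage of the inner automorphisms, it centralises
`N/Q` as `M/N` is perfect, and it is perfect over `Q` because `N/Q` has no complement.
-/

set_option autoImplicit false
set_option linter.style.haveILetI false
set_option linter.unusedSectionVars false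

namespace Cfsg.Agent.Lib.J4Uniq13

open Cfsg Cfsg.Agent.Lib.J4Local
open scoped commutatorElement

section Abstract

variable {C : Type*} [Group C] [Finite C] {Q N : Subgroup C} [Q.Normal] [N.Normal]

/-- A surjection onto `Aut M22` with kernel `N`. -/
theorem exists_hom (hAut : Nonempty (C ⧸ N ≃* AutM22)) :
    ∃ φ : C →* AutM22, Function.Surjective φ ∧ ∀ c, φ c = 1 ↔ c ∈ N := by
  obtain ⟨e⟩ := hAut
  refine ⟨e.toMonoidHom.comp (QuotientGroup.mk' N), e.surjective.comp (QuotientGroup.mk'_surjective N),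
    fun c => ?_⟩
  simp

variable {φ : C →* AutM22} (hφ : Function.Surjective φ) (hker : ∀ c, φ c = 1 ↔ c ∈ N)
include hφ hker

theorem le_pre : N ≤ inn.comap φ := fun n hn => by
  rw [Subgroup.mem_comap, (hker n).mpr hn]
  exact one_mem _

theorem index_pre : (inn.comap φ).index = 2 := by
  rw [Subgroup.index_comap_of_surjective _ hφ]
  have h := Subgroup.card_mul_index inn
  rw [autFacts.card_inn, autFacts.card_aut] at h
  omega

theorem iso_pre : Nonempty ((↥(inn.comap φ) ⧸ N.subgroupOf (inn.comap φ)) ≃* ↥Spor.M22) := by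
  obtain ⟨e⟩ := autFacts.iso_inn
  set f : ↥(inn.comap φ) →* ↥inn :=
    (φ.comp (inn.comap φ).subtype).codRestrict inn fun m => m.2 with hf
  have hfs : Function.Surjective f := fun a => by
    obtain ⟨c, hc⟩ := hφ a
    exact ⟨⟨c, show φ c ∈ inn from hc ▸ a.2⟩, Subtype.ext hc⟩
  have hk : N.subgroupOf (inn.comap φ) = f.ker := by
    ext m
    rw [Subgroup.mem_subgroupOf, ← hker, MonoidHom.mem_ker, Subtype.ext_iff]
    rfl
  exact ⟨((QuotientGroup.quotientMulEquivOfEq hk).trans
    (QuotientGroup.quotientKerEquivOfSurjective f hfs)).trans e⟩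

theorem out_pre (c : C) (hc : ∀ m ∈ inn.comap φ, c * m * c⁻¹ * m⁻¹ ∈ N) : c ∈ inn.comap φ := by
  have h1 : ∀ x : ↥Spor.M22, φ c * MulAut.conj x * (φ c)⁻¹ = MulAut.conj x := fun x => by
    obtain ⟨m, hm⟩ := hφ (MulAut.conj x)
    have h := (hker _).mpr (hc m (show φ m ∈ inn by rw [hm]; exact ⟨x, rfl⟩))
    rw [map_mul, map_mul, map_mul, map_inv, map_inv, mul_inv_eq_one, hm] at h
    exact h
  have hone : φ c = 1 := by
    refine MulEquiv.ext fun x => ?_
    have h3 : ∀ y, φ c x * φ c y * (φ c x)⁻¹ = x * φ c y * x⁻¹ := fun y => by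
      have h := DFunLike.congr_fun (h1 x) (φ c y)
      simp only [MulAut.mul_apply, MulAut.inv_apply, MulEquiv.symm_apply_apply, MulAut.conj_apply] at h
      rwa [map_mul, map_mul, map_inv] at h
    have hcen : x⁻¹ * φ c x ∈ Subgroup.center ↥Spor.M22 := by
      rw [Subgroup.mem_center_iff]
      intro w
      obtain ⟨y, rfl⟩ := (φ c).surjective w
      have h := h3 y
      calc φ c y * (x⁻¹ * φ c x) = x⁻¹ * (x * φ c y * x⁻¹) * φ c x := by group
        _ = x⁻¹ * φ c x * φ c y := by rw [← h]; group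
    rw [AutModel.center_eq_bot, Subgroup.mem_bot, inv_mul_eq_one] at hcen
    exact hcen.symm
  rw [Subgroup.mem_comap, hone]
  exact one_mem _

omit hker in
/-- The preimage of the inner automorphisms is perfect over the kernel. -/
theorem perfect_pre (hker : ∀ c, φ c = 1 ↔ c ∈ N) :
    inn.comap φ ≤ ⁅inn.comap φ, inn.comap φ⁆ ⊔ N := by
  haveI := autFacts.inn_normal
  haveI : (inn.comap φ).Normal := Subgroup.Normal.comap inferInstance φ
  set D := ⁅inn.comap φ, inn.comap φ⁆
  have hDle : D.map φ ≤ inn := by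
    rw [Subgroup.map_le_iff_le_comap]
    exact Subgroup.commutator_le_left _ _
  have hconj : ∀ a ∈ D.map φ, ∀ b ∈ inn, b * a * b⁻¹ ∈ D.map φ := by
    rintro _ ⟨d, hd, rfl⟩ b -
    obtain ⟨c, rfl⟩ := hφ b
    exact ⟨c * d * c⁻¹, (inferInstance : D.Normal).conj_mem d hd c, by simp⟩
  rcases autFacts.eq_inn hDle hconj with h | h
  · exfalso
    have hab : ∀ a ∈ inn, ∀ b ∈ inn, a * b = b * a := fun a ha b hb => by
      obtain ⟨m, rfl⟩ := hφ a
      obtain ⟨m', rfl⟩ := hφ b
      have : φ ⁅m, m'⁆ ∈ D.map φ := ⟨_, Subgroup.commutator_mem_commutator ha hb, rfl⟩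
      rw [h, Subgroup.mem_bot, map_commutatorElement, commutatorElement_eq_one_iff_mul_comm] at this
      exact this
    have hbot : inn = ⊥ := (Subgroup.eq_bot_iff_forall _).mpr fun a ha =>
      autFacts.centre_inn ha fun b hb => hab a ha b hb
    have := autFacts.card_inn
    rw [hbot, Subgroup.card_bot] at this
    omega
  · intro m hm
    obtain ⟨d, hd, hd'⟩ := h.ge (show φ m ∈ inn from hm)
    have : d⁻¹ * m ∈ N := (hker _).mp (by rw [map_mul, map_inv, hd', inv_mul_cancel])
    have h2 := mul_mem (Subgroup.mem_sup_left (T := N) hd) (Subgroup.mem_sup_right (S := D) this)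
    rwa [mul_inv_cancel_left] at h2

omit hφ hker in
/-- A subgroup of index a power of two contains no element outside it of odd order. -/
theorem mem_of_cube (hQN : Q ≤ N) (hN3 : Nat.card ↥N = 3 * Nat.card ↥Q) {x : C} (hx : x ∈ N) :
    x ^ 3 ∈ Q := by
  have h : (Q.subgroupOf N).index = 3 := by
    have h := Subgroup.card_mul_index (Q.subgroupOf N)
    rw [Nat.card_congr (Subgroup.subgroupOfEquivOfLe hQN).toEquiv, hN3, mul_comm 3] at h
    exact Nat.eq_of_mul_eq_mul_left Nat.card_pos h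
  have := Subgroup.pow_index_mem (Q.subgroupOf N) (⟨x, hx⟩ : ↥N)
  rwa [h] at this

omit hker in
/-- The preimage of the inner automorphisms centralises `N/Q`. -/
theorem cent_pre (hker : ∀ c, φ c = 1 ↔ c ∈ N) (hQN : Q ≤ N) (hN3 : Nat.card ↥N = 3 * Nat.card ↥Q) :
    ⁅inn.comap φ, N⁆ ≤ Q := by
  haveI : Fact (Nat.Prime 3) := ⟨Nat.prime_three⟩
  set π := QuotientGroup.mk' Q with hπ
  set Nb := N.map π with hNb
  haveI : Nb.Normal := Subgroup.Normal.map inferInstance π (QuotientGroup.mk'_surjective Q)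
  have hcard : Nat.card ↥Nb = 3 := by
    have h := Subgroup.card_mul_index (π.comp N.subtype).ker
    rw [Subgroup.index_ker, MonoidHom.range_comp, Subgroup.range_subtype] at h
    have hk : Nat.card ↥(π.comp N.subtype).ker = Nat.card ↥Q := by
      rw [← Nat.card_congr (Subgroup.subgroupOfEquivOfLe hQN).toEquiv]
      congr 1
      exact congrArg (fun H : Subgroup ↥N => ↥H) (Subgroup.ext fun n => by
        rw [MonoidHom.mem_ker, Subgroup.mem_subgroupOf]; exact QuotientGroup.eq_one_iff _)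
    rw [hk, hN3, mul_comm 3] at h
    exact Nat.eq_of_mul_eq_mul_left Nat.card_pos h
  haveI : IsCyclic ↥Nb := isCyclic_of_prime_card hcard
  set θ : C →* MulAut ↥Nb := (MulAut.conjNormal).comp π with hθ
  have habel : ∀ a b : MulAut ↥Nb, a * b = b * a := fun a b => by
    obtain ⟨g, hg⟩ := IsCyclic.exists_generator (α := ↥Nb)
    obtain ⟨i, hi⟩ := hg (a g)
    obtain ⟨j, hj⟩ := hg (b g)
    simp only at hi hj
    refine MulEquiv.ext fun x => ?_
    obtain ⟨k, rfl⟩ := hg x
    simp only [MulAut.mul_apply, map_zpow]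
    rw [← hi, ← hj, map_zpow, map_zpow, ← hi, ← hj]
    simp only [← zpow_mul]
    congr 1
    ring
  have hD : ⁅inn.comap φ, inn.comap φ⁆ ≤ θ.ker := Subgroup.commutator_le.mpr fun a _ b _ => by
    rw [MonoidHom.mem_ker, map_commutatorElement, commutatorElement_eq_one_iff_mul_comm]
    exact habel _ _
  have hNk : N ≤ θ.ker := fun n hn => by
    rw [MonoidHom.mem_ker]
    refine MulEquiv.ext fun x => Subtype.ext ?_
    show π n * x * (π n)⁻¹ = x
    letI := IsCyclic.commGroup (α := ↥Nb)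
    have h := congrArg Subtype.val (mul_comm (⟨π n, Subgroup.mem_map_of_mem π hn⟩ : ↥Nb) x)
    simp only [Subgroup.coe_mul] at h
    rw [h, mul_inv_cancel_right]
  have hM : inn.comap φ ≤ θ.ker := (perfect_pre hφ hker).trans (sup_le hD hNk)
  refine Subgroup.commutator_le.mpr fun m hm n hn => ?_
  have h := congrArg (fun f : MulAut ↥Nb => ((f ⟨π n, Subgroup.mem_map_of_mem π hn⟩ : ↥Nb) : C ⧸ Q))
    (MonoidHom.mem_ker.mp (hM hm))
  change π m * π n * (π m)⁻¹ = π n at h
  refine (QuotientGroup.eq_one_iff _).mp ?_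
  show π ⁅m, n⁆ = 1
  rw [commutatorElement_def, map_mul, map_mul, map_mul, map_inv, map_inv, h, mul_inv_cancel]

omit hker in
/-- Without a complement to `N/Q` the preimage of the inner automorphisms is perfect over `Q`. -/
theorem perfect_over (hker : ∀ c, φ c = 1 ↔ c ∈ N) (hQN : Q ≤ N)
    (hN3 : Nat.card ↥N = 3 * Nat.card ↥Q) (hns : ∀ K : Subgroup C, K ⊓ N = Q → K ⊔ N = ⊤ → False) :
    inn.comap φ ≤ ⁅inn.comap φ, inn.comap φ⁆ ⊔ Q := by
  haveI := autFacts.inn_normal
  haveI : (inn.comap φ).Normal := Subgroup.Normal.comap inferInstance φ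
  set M := inn.comap φ with hM
  set K₀ := ⁅M, M⁆ ⊔ Q with hK₀
  haveI : K₀.Normal := Subgroup.sup_normal _ _
  have hQK : Q ≤ K₀ := le_sup_right
  have hM2 := index_pre hφ hker
  have hMle : M ≤ K₀ ⊔ N := (perfect_pre hφ hker).trans (sup_le_sup le_sup_left le_rfl)
  -- the part of `N` in `K₀` is `N` or `Q`
  have hdiv : Nat.card ↥(K₀ ⊓ N : Subgroup C) ∣ 3 * Nat.card ↥Q := hN3 ▸ Subgroup.card_dvd_of_le inf_le_right
  obtain ⟨k, hk⟩ := Subgroup.card_dvd_of_le (le_inf hQK hQN)
  rw [hk, mul_comm 3] at hdiv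
  rcases (Nat.dvd_prime Nat.prime_three).mp (Nat.dvd_of_mul_dvd_mul_left Nat.card_pos hdiv) with rfl | rfl
  · exfalso
    have hinf : K₀ ⊓ N = Q :=
      (Subgroup.eq_of_le_of_card_ge (le_inf hQK hQN) (by rw [hk, mul_one])).symm
    obtain ⟨c, hc⟩ : ∃ c, c ∉ M := by
      by_contra h
      push Not at h
      have : M = ⊤ := eq_top_iff.mpr fun x _ => h x
      rw [show inn.comap φ = ⊤ from this, Subgroup.index_top] at hM2
      omega
    obtain ⟨a, m, hm, hcm⟩ := Nat.exists_eq_two_pow_mul_odd (orderOf_pos c).ne'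
    set u := c ^ m with hu
    have hu2 : u ^ 2 ^ a = 1 := by rw [hu, ← pow_mul, mul_comm, ← hcm, pow_orderOf_eq_one]
    have huM : u ∉ M := fun h => by
      obtain ⟨j, rfl⟩ := hm
      have hcc : (c * c) ^ j ∈ M := Subgroup.pow_mem M (Subgroup.mul_self_mem_of_index_two hM2 c) j
      rw [hu, pow_succ, pow_mul, sq] at h
      exact hc ((Subgroup.mul_mem_cancel_left M hcc).mp h)
    refine hns (K₀ ⊔ Subgroup.zpowers u) ?_ ?_
    · refine le_antisymm ?_ (le_inf (hQK.trans le_sup_left) hQN)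
      rintro x ⟨hx, hxN⟩
      obtain ⟨k, hk', v, hv, rfl⟩ := Subgroup.mem_sup_of_normal_left.mp hx
      have hpow : (k * v) ^ 2 ^ a ∈ K₀ := by
        rw [← QuotientGroup.eq_one_iff, QuotientGroup.mk_pow, QuotientGroup.mk_mul,
          (QuotientGroup.eq_one_iff k).mpr hk', one_mul, ← QuotientGroup.mk_pow]
        obtain ⟨i, rfl⟩ := Subgroup.mem_zpowers_iff.mp hv
        rw [← zpow_natCast, ← zpow_mul, mul_comm, zpow_mul, zpow_natCast, hu2, one_zpow,
          QuotientGroup.mk_one]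
      have h1 : (k * v) ^ 2 ^ a ∈ Q := hinf ▸ ⟨hpow, pow_mem hxN _⟩
      have h3 := mem_of_cube hQN hN3 hxN
      rw [← QuotientGroup.eq_one_iff, QuotientGroup.mk_pow] at h1 h3
      rw [← QuotientGroup.eq_one_iff, ← orderOf_eq_one_iff, ← Nat.dvd_one]
      have hcop : Nat.Coprime (2 ^ a) 3 := Nat.Coprime.pow_left a (by norm_num)
      exact hcop ▸ Nat.dvd_gcd (orderOf_dvd_of_pow_eq_one h1) (orderOf_dvd_of_pow_eq_one h3)
    · rw [eq_top_iff]
      intro x _
      have hMs : M ≤ K₀ ⊔ Subgroup.zpowers u ⊔ N := hMle.trans (sup_le_sup le_sup_left le_rfl)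
      by_cases hx : x ∈ M
      · exact hMs hx
      · have hxu : x * u ∈ M :=
          (Subgroup.mul_mem_iff_of_index_two hM2).mpr ⟨fun h => absurd h hx, fun h => absurd h huM⟩
        have := mul_mem (hMs hxu) (inv_mem (Subgroup.mem_sup_left (T := N)
          (Subgroup.mem_sup_right (S := K₀) (Subgroup.mem_zpowers u))))
        rwa [mul_inv_cancel_right] at this
  · have hNK : N ≤ K₀ := by
      have h := Subgroup.eq_of_le_of_card_ge (inf_le_right : K₀ ⊓ N ≤ N) (by rw [hk, hN3, mul_comm])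
      exact h ▸ inf_le_left
    exact hMle.trans (sup_le le_rfl hNK)

end Abstract

/-- The hypotheses of S5585 give Janko-four type. -/
theorem bridge5585 {G : Type*} [Group G] [Finite G] (τ : G)
    (Q N : Subgroup ↥(Subgroup.centralizer ({τ} : Set G))) [Q.Normal] [N.Normal]
    (hS : Cfsg.IsExtraspecialCentralizerSetting τ Q 6) (hQN : Q ≤ N)
    (hN3 : Nat.card ↥N = 3 * Nat.card ↥Q)
    (hns : ∀ K : Subgroup ↥(Subgroup.centralizer ({τ} : Set G)), K ⊓ N = Q → K ⊔ N = ⊤ → False)
    (hAut : Nonempty (↥(Subgroup.centralizer ({τ} : Set G)) ⧸ N ≃* MulAut ↥Cfsg.Spor.M22)) :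
    Cfsg.IsOfJankoFourTypeAt τ := by
  obtain ⟨hτ, hF, hQ, hcard, -⟩ := hS
  obtain ⟨φ, hφ, hker⟩ := exists_hom hAut
  haveI := autFacts.inn_normal
  haveI : (inn.comap φ).Normal := Subgroup.Normal.comap inferInstance φ
  obtain ⟨e⟩ := iso_pre hφ hker
  have h2c : Subgroup.centralizer (Q : Set ↥(Subgroup.centralizer ({τ} : Set G))) ≤ Q := by
    have h := Cfsg.Agent.S1265.result (G := ↥(Subgroup.centralizer ({τ} : Set G)))
    rwa [hF] at h
  exact J4Recog76.isOfJankoFourTypeAt τ hτ Q N (inn.comap φ) hQN (le_pre hφ hker) (index_pre hφ hker) hQ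
    (by rw [hcard]) hN3 (cent_pre hφ hker hQN hN3) (perfect_over hφ hker hQN hN3 hns) h2c
    (out_pre hφ hker) e

end Cfsg.Agent.Lib.J4Uniq13
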