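import Cfsg.Agent.Lib.J4Ten.StdDefs
import Cfsg.Agent.Lib.J4Ten.SL5
import Cfsg.Agent.Lib.J4Order.Model

/-!
# Computable arithmetic of `2^11 : M24` and of `2^10 : L5(2)`

Elements of the first group are pairs (vector, code), of the second pairs (form, five columns); words in the two
generators of the octad stabiliser give elements of both.
-/

set_option autoImplicit false

namespace Cfsg.Agent.Lib.J4Uniq13

open Cfsg.Agent.Lib.Computation Cfsg.Agent.Lib.Golay

/-! ### the second group -/

/-- The identity columns. -/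
def idCols : List ℕ := [1, 2, 4, 8, 16]

/-- Five columns. -/
def gOk (g : List ℕ) : Bool := Nat.beq g.length 5 && g.all fun u => Nat.blt u 32

/-- The induced columns on forms. -/
def wMat (g : List ℕ) : List ℕ := J4Ten.wCols fun u => combine g u

/-- The product. -/
def amul (p q : ℕ × List ℕ) : ℕ × List ℕ :=
  (p.1 ^^^ combine (wMat p.2) q.1, q.2.map fun u => combine p.2 u)

/-- The identity. -/
def aone : ℕ × List ℕ := (0, idCols)

/-- Equality of lists of numbers. -/
def leq : List ℕ → List ℕ → Bool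
  | [], [] => true
  | a :: s, b :: t => Nat.beq a b && leq s t
  | _, _ => false

/-- Equality. -/
def aeq (p q : ℕ × List ℕ) : Bool := Nat.beq p.1 q.1 && leq p.2 q.2

/-- The pair is not the identity. -/
def ane (p : ℕ × List ℕ) : Bool :=
  !Nat.beq p.1 0 || (List.range 10).any fun b => !Nat.beq (combine (wMat p.2) (2 ^ b)) (2 ^ b)

/-- A power. -/
def apow (p : ℕ × List ℕ) : ℕ → ℕ × List ℕ
  | 0 => aone
  | n + 1 => amul (apow p n) p

/-- The value of a word. -/
def aword (A B : ℕ × List ℕ) : List ℕ → ℕ × List ℕ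
  | [] => aone
  | l :: w => amul (bif Nat.beq l 0 then A else B) (aword A B w)

/-! ### the first group -/

/-- The product. -/
def nmul (p q : ℕ × ℕ) : ℕ × ℕ := (p.1 ^^^ J4Order.act p.2 q.1, mulP 24 5 p.2 q.2)

/-- The identity. -/
def none' : ℕ × ℕ := (0, oneCode)

/-- Equal codes as maps. -/
def cEq (c d : ℕ) : Bool := (List.range 24).all fun i => Nat.beq (getW 5 c i) (getW 5 d i)

/-- Equality. -/
def neq' (p q : ℕ × ℕ) : Bool := Nat.beq p.1 q.1 && cEq p.2 q.2

/-- An admissible pair. -/
def nOk (p : ℕ × ℕ) : Bool := Nat.blt p.1 2048 && inM24 p.2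

/-- The coordinates of a member of the standard `2^10`. -/
def chiP (a : ℕ) : ℕ × ℕ := (J4Ten.cV (a % 64), J4Ten.rC (a / 64))

/-- The twisted lift of a permutation. -/
def twP (c : ℕ) : ℕ × ℕ := (J4Ten.duo J4Ten.Data.x0 (getW 5 c J4Ten.Data.x0), c)

/-- The code of a word. -/
def cword (A B : ℕ) : List ℕ → ℕ
  | [] => oneCode
  | l :: w => mulP 24 5 (bif Nat.beq l 0 then A else B) (cword A B w)

end Cfsg.Agent.Lib.J4Uniq13
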