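import Cfsg.Agent.Lib.J4Order.Model
import Cfsg.Agent.Lib.M24Classes.Enum
import Cfsg.Agent.Lib.FusionAlperin.MathieuCert

/-!
# A certified centraliser inside the normaliser of the `2^11`

`centCert d T L aux` checks that an element commuting with the vector `d` and with the elements
`ev b (el c)`, `(b, c) ∈ T`, is one of `ev a (el c')`, `(a, c') ∈ L`.  The certificate `aux` is a code
moving the first basis vector to `d`, and a spanning forest `(j, i, k)` of the points: `k < T.length`
says that the permutation of the entry `k` sends `i` to `j`, a larger `k` starts a new orbit at `j`.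
-/

set_option autoImplicit false

namespace Cfsg.Agent.Lib.J4Uniq13

open Cfsg Cfsg.Agent.Lib.Golay Cfsg.Agent.Lib.Computation
open Cfsg.Agent.Lib.J4Order
open Cfsg.Agent.Lib.J4Big.Cocode

/-- Call by value for a list. -/
def forceL {α : Sort*} : List ℕ → (List ℕ → α) → α
  | [], k => k []
  | x :: r, k => forceNat x fun x => forceL r fun r => k (x :: r)

theorem forceL_eq {α : Sort*} : ∀ (l : List ℕ) (k : List ℕ → α), forceL l k = k l
  | [], _ => rfl
  | x :: r, k => by rw [forceL, forceNat_eq, forceL_eq r]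

/-- The image of a point in a partial assignment. -/
def lookA : List (ℕ × ℕ) → ℕ → ℕ
  | [], _ => 24
  | (j, v) :: r, i => bif Nat.beq j i then v else lookA r i

/-- The completions of a partial assignment along the forest. -/
def extend (cs : List ℕ) : List (ℕ × ℕ × ℕ) → List (ℕ × ℕ) → List (List (ℕ × ℕ))
  | [], a => [a]
  | (j, i, k) :: r, a =>
    bif Nat.blt k cs.length then
      forceNat (getW 5 (cs.getD k 0) (lookA a i)) fun v => extend cs r ((j, v) :: a)
    else (List.range 24).flatMap fun v => extend cs r ((j, v) :: a)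

/-- The forest is valid and spans all points. -/
def forestOk (cs : List ℕ) : List (ℕ × ℕ × ℕ) → List ℕ → Bool
  | [], vis => (List.range 24).all fun x => vis.any fun y => Nat.beq y x
  | (j, i, k) :: r, vis =>
    Nat.blt j 24 &&
      (bif Nat.blt k cs.length then
        Nat.beq (getW 5 (cs.getD k 0) i) j && vis.any (fun y => Nat.beq y i) else true) &&
      forestOk cs r (j :: vis)

/-- The vectors which fit a permutation. -/
def sols (c : ℕ) : List (ℕ × ℕ) → List ℕ → List ℕ
  | [], l => l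
  | q :: r, l =>
    forceL (imgL q.2) fun P => forceNat (q.1 ^^^ act c q.1) fun t =>
      sols c r (l.filter fun a => Nat.beq (a ^^^ combine P a) t)

/-- A candidate commutes with the listed permutations. -/
def commAll (cs : List ℕ) (c : ℕ) : Bool :=
  cs.all fun t => (List.range 24).all fun i =>
    Nat.beq (getW 5 c (getW 5 t i)) (getW 5 t (getW 5 c i))

/-- The candidates are covered by the list. -/
def candOk (d : ℕ) (T L : List (ℕ × ℕ)) (c : ℕ) : Bool :=
  !commAll (T.map Prod.snd) c || !inM24 c || !Nat.beq (act c d) d ||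
    ((sols c T (List.range 2048)).all fun a => L.any fun q =>
      Nat.beq q.1 a && (List.range 24).all fun i => Nat.beq (getW 5 q.2 i) (getW 5 c i))

/-- The certificate. -/
def centCert (d : ℕ) (T L : List (ℕ × ℕ)) (aux : ℕ × List (ℕ × ℕ × ℕ)) : Bool :=
  inM24 aux.1 && Nat.beq (act aux.1 1) d &&
    (T.all fun q => Nat.blt q.1 2048 && inM24 q.2) &&
    (L.all fun q => inM24 q.2) &&
    forestOk (T.map Prod.snd) aux.2 [] &&
    (extend (T.map Prod.snd) aux.2 []).all fun a =>
      forceNat (packW 5 (lookA a) 24) fun c => candOk d T L c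

theorem lookA_eq {f : ℕ → ℕ} : ∀ {a : List (ℕ × ℕ)} {i : ℕ}, (∀ p ∈ a, p.2 = f p.1) →
    i ∈ a.map Prod.fst → lookA a i = f i
  | [], _, _, h => absurd h List.not_mem_nil
  | (j, v) :: r, i, hf, hi => by
    rw [lookA]
    cases hb : Nat.beq j i with
    | true =>
      rw [cond_true, ← Nat.eq_of_beq_eq_true hb]
      exact hf _ List.mem_cons_self
    | false =>
      rw [cond_false]
      refine lookA_eq (fun p hp => hf p (List.mem_cons_of_mem _ hp)) ?_
      rcases List.mem_cons.mp hi with e | e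
      · subst e
        rw [Nat.beq_refl] at hb
        exact absurd hb Bool.noConfusion
      · exact e

/-- A function on the points commuting with the listed permutations is one of the completions. -/
theorem exists_extend {f : ℕ → ℕ} {cs : List ℕ} (hf : ∀ j < 24, f j < 24)
    (hc : ∀ k < cs.length, ∀ i < 24, f (getW 5 (cs.getD k 0) i) = getW 5 (cs.getD k 0) (f i)) :
    ∀ {S : List (ℕ × ℕ × ℕ)} {a : List (ℕ × ℕ)}, forestOk cs S (a.map Prod.fst) = true →
      (∀ p ∈ a, p.2 = f p.1) → (∀ p ∈ a, p.1 < 24) →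
      ∃ b ∈ extend cs S a, ∀ x < 24, lookA b x = f x
  | [], a, h, ha, _ => by
    refine ⟨a, List.mem_singleton_self _, fun x hx => lookA_eq ha ?_⟩
    simp only [forestOk, List.all_eq_true, List.any_eq_true, List.mem_range, Nat.beq_eq] at h
    obtain ⟨y, hy, rfl⟩ := h x hx
    exact hy
  | (j, i, k) :: S, a, h, ha, hlt => by
    simp only [forestOk, Bool.and_eq_true, Nat.blt_eq] at h
    obtain ⟨⟨hj, hk⟩, hS⟩ := h
    obtain ⟨b, hb, hbf⟩ := exists_extend hf hc (S := S) (a := (j, f j) :: a) hS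
      (fun p hp => (List.mem_cons.mp hp).elim (fun e => e ▸ rfl) (ha p))
      (fun p hp => (List.mem_cons.mp hp).elim (fun e => e ▸ hj) (hlt p))
    refine ⟨b, ?_, hbf⟩
    rw [extend]
    cases hkb : Nat.blt k cs.length with
    | true =>
      simp only [hkb, cond_true, Bool.and_eq_true, List.any_eq_true, Nat.beq_eq] at hk
      obtain ⟨e, y, hy, rfl⟩ := hk
      have hy24 : y < 24 := by
        obtain ⟨p, hp, rfl⟩ := List.mem_map.mp hy
        exact hlt p hp
      rw [cond_true, forceNat_eq, lookA_eq ha hy, ← hc k (Nat.blt_eq.mp hkb) y hy24, e]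
      exact hb
    | false =>
      rw [cond_false]
      exact List.mem_flatMap.mpr ⟨f j, List.mem_range.mpr (hf j hj), hb⟩

theorem mem_sols {c : ℕ} : ∀ {T : List (ℕ × ℕ)} {l : List ℕ} {a : ℕ}, a ∈ l →
    (∀ q ∈ T, a ^^^ act q.2 a = q.1 ^^^ act c q.1) → a ∈ sols c T l
  | [], _, _, ha, _ => ha
  | q :: T, l, a, ha, h => by
    rw [sols, forceL_eq, forceNat_eq]
    refine mem_sols (List.mem_filter.mpr ⟨ha, ?_⟩) fun q' hq => h q' (List.mem_cons_of_mem _ hq)
    have e := h q List.mem_cons_self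
    rw [J4Order.act] at e
    rw [e]
    exact Nat.beq_refl _

/-- An element of the group of the code has a packed code. -/
theorem exists_code (σ : ↥M24) : ∃ c : ℕ, Good c ∧ el c = σ ∧ packW 5 (fun x => getW 5 c x) 24 = c := by
  set τ := indexHom.symm (σ : Equiv.Perm GolayPt) with hτ
  obtain ⟨hok, hdec⟩ := decodeP_encodeP (n := 24) (w := 5) (by norm_num) τ
  have hg : gperm (encodeP 24 5 τ) = (σ : Equiv.Perm GolayPt) := by
    rw [gperm, hdec, hτ, MulEquiv.apply_symm_apply]
  have hmem : gperm (encodeP 24 5 τ) ∈ M24 := hg ▸ σ.2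
  refine ⟨encodeP 24 5 τ, ⟨hok, hmem⟩, Subtype.ext ((el_coe hmem).trans hg), ?_⟩
  refine FusionAlperin.MathieuCert.packW_congr fun i hi => ?_
  exact (getW_encodeP (w := 5) (by norm_num) τ ⟨i, hi⟩).trans (by simp [hi])

theorem mem_norm_of_commute {G : Type*} [Group G] {z : G} (M : NModel z) {g : ℕ} (hg : Good g)
    {x : G} (hd : Commute x (M.ψ (act g 1))) : x ∈ Subgroup.normalizer (M.V : Set G) := by
  have h : Commute ((M.κ (el g))⁻¹ * x * M.κ (el g)) (M.ψ 1) := by
    rw [← M.conj_el hg (by norm_num : 1 < 2048)] at hd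
    simpa [mul_assoc] using hd.map (MulAut.conj (M.κ (el g))⁻¹).toMonoidHom
  have hy := M.cent_le (Subgroup.mem_centralizer_singleton_iff.mpr h.eq)
  have hx := mul_mem (mul_mem (M.mem_norm (el g)) hy) (inv_mem (M.mem_norm (el g)))
  simpa [mul_assoc] using hx

/-- The certified centraliser. -/
theorem mem_of_commute {G : Type*} [Group G] [Finite G] {z : G} (M : NModel z) {d : ℕ}
    {T L : List (ℕ × ℕ)} {aux : ℕ × List (ℕ × ℕ × ℕ)} (h : centCert d T L aux = true) {x : G}
    (hd : Commute x (M.ψ d)) (hT : ∀ q ∈ T, Commute x (M.ev q.1 (el q.2))) :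
    ∃ q ∈ L, x = M.ev q.1 (el q.2) := by
  simp only [centCert, Bool.and_eq_true, List.all_eq_true, forceNat_eq, Nat.beq_eq, Nat.blt_eq] at h
  obtain ⟨⟨⟨⟨⟨hg, hgd⟩, hTok⟩, hLok⟩, hfor⟩, hcand⟩ := h
  obtain ⟨a, ha, σ, rfl⟩ :=
    M.exists_ev (mem_norm_of_commute M (good_of_inM24 hg) (hgd ▸ hd))
  obtain ⟨c, hc, rfl, hpack⟩ := exists_code σ
  have hT' : ∀ q ∈ T, el c * el q.2 = el q.2 * el c ∧ a ^^^ act q.2 a = q.1 ^^^ act c q.1 := by
    intro q hq
    obtain ⟨hb, hq2⟩ := hTok q hq
    have e := (hT q hq).eq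
    rw [M.ev_mul ha hb hc, M.ev_mul hb ha (good_of_inM24 hq2)] at e
    obtain ⟨e1, e2⟩ := M.ev_inj (Nat.xor_lt_two_pow (n := 11) ha (act_lt c _))
      (Nat.xor_lt_two_pow (n := 11) hb (act_lt _ a)) e
    refine ⟨e2, ?_⟩
    have e3 := congrArg (fun t => (t ^^^ act q.2 a) ^^^ act c q.1) e1
    simpa [Nat.xor_assoc, Nat.xor_comm, Nat.xor_left_comm] using e3
  have hcd : act c d = d := by
    have hd' : Commute (M.κ (el c)) (M.ψ d) := by
      have hψ : Commute (M.ψ a) (M.ψ d) := M.frame.comm (M.ψ_mem a) (M.ψ_mem d)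
      simpa [NModel.ev] using hψ.inv_left.mul_left hd
    have hdlt : d < 2048 := hgd ▸ act_lt _ _
    have e := M.conj_el hc hdlt
    rw [hd'.eq, mul_inv_cancel_right] at e
    exact (M.frame.inj _ _ (act_lt c d) hdlt e.symm)
  have hcomm : ∀ q ∈ T, ∀ i < 24, getW 5 c (getW 5 q.2 i) = getW 5 q.2 (getW 5 c i) := by
    intro q hq i hi
    have hq2 := good_of_inM24 (hTok q hq).2
    have e := congrArg (fun s : ↥M24 => idx ((s : Equiv.Perm GolayPt) (pt i))) (hT' q hq).1
    simpa [el_coe hc.2, el_coe hq2.2, idx_gperm hc.1, idx_gperm hq2.1, idx_pt hi] using e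
  have hcs : ∀ t ∈ T.map Prod.snd, ∀ i < 24, getW 5 c (getW 5 t i) = getW 5 t (getW 5 c i) := by
    intro t ht
    obtain ⟨q, hq, rfl⟩ := List.mem_map.mp ht
    exact hcomm q hq
  obtain ⟨b, hb, hbf⟩ := exists_extend (f := getW 5 c) (fun j hj => getW_lt hc.1 hj)
    (fun k hk => hcs _ (by rw [List.getD_eq_getElem _ _ hk]; exact List.getElem_mem _))
    (a := []) hfor (fun p hp => absurd hp List.not_mem_nil) (fun p hp => absurd hp List.not_mem_nil)
  have hcand' := hcand b hb
  rw [FusionAlperin.MathieuCert.packW_congr hbf, hpack] at hcand'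
  have hM : inM24 c = true := M24Classes.Enum.inM24_of_mem hc.1 hc.2
  have hall : commAll (T.map Prod.snd) c = true := by
    simp only [commAll, List.all_eq_true, List.mem_range, Nat.beq_eq]
    exact hcs
  have hda : Nat.beq (act c d) d = true := by rw [hcd]; exact Nat.beq_refl _
  simp only [candOk, hall, hM, hda, Bool.not_true, Bool.false_or, List.all_eq_true, List.any_eq_true,
    Bool.and_eq_true, Nat.beq_eq, List.mem_range] at hcand'
  obtain ⟨q, hq, e1, e2⟩ := hcand' a (mem_sols (List.mem_range.mpr ha) fun q hq => (hT' q hq).2)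
  refine ⟨q, hq, ?_⟩
  have hq2 := good_of_inM24 (hLok q hq)
  have eg : gperm q.2 = gperm c := Equiv.ext fun p => idx_injective (by
    rw [idx_gperm hq2.1, idx_gperm hc.1, e2 _ (idx_lt p)])
  rw [e1, show el q.2 = el c from Subtype.ext (by rw [el_coe hq2.2, el_coe hc.2, eg])]

end Cfsg.Agent.Lib.J4Uniq13
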