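/-!
# Data: a centraliser in the normaliser of the `2^11`

Pairs (vector, code): a duad, twelve elements, and the sixteen elements commuting with all of them.
-/

set_option autoImplicit false

namespace Cfsg.Agent.Lib.J4Uniq13.DataCent

/-- The duad. -/
def d : Nat := 987

/-- The twelve elements. -/
def T : List (Nat × Nat) :=
  [(987, 984818244535754528103549039458486304),
   (320, 958359841193275559058527489894996000),
   (285, 958359841193275559058527489894996000),
   (811, 958359841193275559058527489894996000),
   (1599, 958359841193275559058527489894996000),
   (614, 969202056781860934635753244362607648),
   (861, 973804896116145416835644806975036448),
   (805, 627482513255179905915843060936935425),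
   (1373, 755934308562468107053745644000256435),
   (1112, 794001470526869172222285903022467634),
   (384, 983548058628271758227072553185584160),
   (2012, 710909924544294470290462162775902829)]

/-- The centraliser. -/
def L : List (Nat × Nat) :=
  [(0, 984818244535754528103549039458486304),
   (432, 984818244535754528103549039458486304),
   (566, 984818244535754528103549039458486304),
   (902, 984818244535754528103549039458486304),
   (1188, 984818244535754528103549039458486304),
   (1300, 984818244535754528103549039458486304),
   (1682, 984818244535754528103549039458486304),
   (1826, 984818244535754528103549039458486304),
   (160, 959775806916153066781728529055426592),
   (272, 959775806916153066781728529055426592),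
   (662, 959775806916153066781728529055426592),
   (806, 959775806916153066781728529055426592),
   (1028, 959775806916153066781728529055426592),
   (1460, 959775806916153066781728529055426592),
   (1586, 959775806916153066781728529055426592),
   (1922, 959775806916153066781728529055426592)]

end Cfsg.Agent.Lib.J4Uniq13.DataCent
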