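import Cfsg.Agent.Lib.J4Uniq13.Cent
import Cfsg.Agent.Lib.J4Uniq13.DataCent

/-!
# The sixteen elements commuting with the twelve
-/

set_option autoImplicit false

namespace Cfsg.Agent.Lib.J4Uniq13.CentCheck

open Cfsg Cfsg.Agent.Lib.Golay Cfsg.Agent.Lib.J4Order

/-- A code moving the first basis vector to the duad, and a spanning forest of the points. -/
def aux : ℕ × List (ℕ × ℕ × ℕ) :=
  (19129184336455969953246366111510003,
   [(0, 0, 12), (1, 0, 7), (19, 0, 8), (18, 0, 9), (13, 0, 11), (17, 1, 9),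
   (23, 19, 9), (15, 18, 11), (2, 0, 12), (22, 2, 1), (3, 2, 5), (7, 2, 6),
   (8, 2, 8), (10, 2, 9), (9, 2, 10), (14, 22, 6), (6, 22, 8), (21, 22, 10),
   (11, 3, 6), (16, 3, 8), (12, 3, 10), (5, 7, 7), (4, 8, 7), (20, 10, 10)])

theorem cert_ok : centCert DataCent.d DataCent.T DataCent.L aux = true := by decide +kernel

/-- What commutes with the duad and the twelve elements is listed. -/
theorem mem_of_commute {G : Type*} [Group G] [Finite G] {z : G} (M : NModel z) {x : G}
    (hd : Commute x (M.ψ DataCent.d))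
    (hT : ∀ q ∈ DataCent.T, Commute x (M.ev q.1 (el q.2))) :
    ∃ q ∈ DataCent.L, x = M.ev q.1 (el q.2) :=
  J4Uniq13.mem_of_commute M cert_ok hd hT

end Cfsg.Agent.Lib.J4Uniq13.CentCheck
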