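import Cfsg.Agent.Lib.J4Uniq13.CentCheck

/-!
# The sixteen elements commuting with the twelve, from the twelve alone
-/

set_option autoImplicit false

namespace Cfsg.Agent.Lib.J4Uniq13

open Cfsg Cfsg.Agent.Lib.Golay Cfsg.Agent.Lib.J4Order

theorem DataCent.head_mem : (DataCent.d, oneCode) ∈ DataCent.T := by decide +kernel

/-- What commutes with the twelve elements is one of the sixteen. -/
theorem cent_data {G : Type*} [Group G] [Finite G] {z : G} (M : NModel z) {x : G}
    (hT : ∀ q ∈ DataCent.T, Commute x (M.ev q.1 (el q.2))) :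
    ∃ q ∈ DataCent.L, x = M.ev q.1 (el q.2) :=
  CentCheck.mem_of_commute M
    (by simpa [NModel.ev, el_one] using hT _ DataCent.head_mem) hT

end Cfsg.Agent.Lib.J4Uniq13
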