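/-!
# Data: the two marked elements of the complement and the witnesses of the normalisation
-/

set_option autoImplicit false

namespace Cfsg.Agent.Lib.J4Uniq13.DataFrame

/-- The first permutation (twisted lift of order 14). -/
def cA : Nat :=
  982944571562854843105553146710269971

/-- The second permutation (twisted lift of order 3). -/
def cB : Nat :=
  558267761720382453918110489878212663

/-- The columns of the first. -/
def gA : List Nat :=
  [2, 12, 4, 3, 31]

/-- The columns of the second. -/
def gB : List Nat :=
  [10, 14, 7, 5, 26]

/-- Linear choice of a translation normalising the first cochain value to `0` or `cA0`. -/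
def normMat : List Nat :=
  [26, 36, 38, 18, 61, 34, 0, 65, 640, 620]

/-- The other normal form of the first value. -/
def cA0 : Nat :=
  64

/-- Words with orders; their values cut the options to four. -/
def rels : List (List Nat × Nat) :=
  [([0, 1, 0], 6), ([1, 0, 0, 0], 6), ([0, 0, 0, 1, 1], 7), ([0, 0, 0, 1, 0, 1], 5), ([0, 0, 1, 1, 0, 1, 1, 0, 0], 6)]

/-- The inner options: value at the second element and the translation. -/
def inner : List (Nat × Nat) :=
  [(0, 0), (216, 288)]

/-- The excluded options: value, two words each with a conjugator to a standard involution (the first in the class of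
the central one, the second not), and columns conjugating the first action to the second. -/
def bad : List (Nat × (List Nat × (Nat × Nat) × (Nat × Nat)) × (List Nat × (Nat × Nat) × (Nat × Nat)) × List Nat × List Nat) :=
  [(37, ([1, 1, 0, 0, 0, 1, 1, 0, 1, 0, 0, 0], (88, 528562860255151120026987843521914479), (0, 21647169741103660076458455793304663)), ([1, 1, 0, 1, 0, 1, 1, 0, 0, 0, 0, 0, 0, 0], (74, 419482509486912490281772560728428567), (0, 7108128418911371606309837526795351)), [4, 7, 2, 25, 14], [7, 4, 1, 21, 26]),
   (253, ([1, 1, 0, 0, 0, 1, 1, 0, 1, 0, 0, 0], (74, 528562860255151120026987843521914479), (0, 21647169741103660076458455793304663)), ([1, 1, 0, 1, 0, 1, 1, 0, 0, 0, 0, 0, 0, 0], (98, 419482509486912490281772560728428567), (0, 7108128418911371606309837526795351)), [2, 27, 6, 30, 10], [15, 1, 5, 17, 29])]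

end Cfsg.Agent.Lib.J4Uniq13.DataFrame
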