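/-!
# Data: the second long relation
-/

set_option autoImplicit false

namespace Cfsg.Agent.Lib.J4Uniq13.DataRel

/-- The frame of the octad shared by the two conjugates. -/
def g1 : Nat :=
  333852762964284317203587651439573558

/-- Its inverse. -/
def g1i : Nat :=
  374255124583810390999977436480419525

/-- The coefficient in this frame. -/
def cS1 : Nat :=
  810294188769761517815205347430044210

/-- Its square. -/
def cS12 : Nat :=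
  568777693186629215780209743777335297

/-- Certificate of the square. -/
def wS12 : Nat × Nat × List Nat × List Nat :=
  (0, 0, [], [0, 1, 0, 1, 1, 0, 0, 1, 0, 0, 0, 1, 0, 1, 0, 0, 1, 0, 0, 1, 1])

/-- The carrier of the first trio. -/
def cA1 : Nat :=
  271625160912163814881694312690258954

/-- Its inverse. -/
def cA1i : Nat :=
  432389961972998128797042003659608641

/-- The coefficient commutes with the first. -/
def tSA : Nat × (Nat × Nat × List Nat × List Nat) :=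
  (1, (0, 6, [0, 0, 0, 0, 0, 1, 0, 0, 0, 0, 0, 0, 0, 1, 1, 0, 0], [1, 0, 0, 1, 0, 1, 0, 0, 0, 0, 1, 0, 0, 0, 0, 1, 1, 0, 0, 1]))

/-- The carrier of the second trio. -/
def cD0 : Nat :=
  943701880743965154716051887997788302

/-- The inverse of the second conjugator. -/
def cU2i : Nat :=
  211609471323125926717704865905455405

/-- The standard carrier of the second trio. -/
def rD : Nat × Nat × (Nat × Nat × List Nat × List Nat) × (Nat × Nat × List Nat × List Nat) :=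
  (958288766743540673266728947291559503, 963846053566570639434635772923468333, (0, 6, [0, 0, 0, 0, 0, 1, 0, 0, 0, 0, 0, 0, 0, 1, 1, 0, 0], [0, 1, 1, 0, 0, 0, 0, 1, 1, 0, 0, 1, 1, 0, 0, 0, 0, 1, 1]), (0, 3, [1, 1, 0, 0, 0, 0, 0, 0, 0, 1], [1, 1, 0, 1, 1, 0, 0, 1, 1, 0, 1, 0, 0, 0, 1, 1, 0, 1, 1, 0, 0]))

/-- The standard carrier of its image. -/
def rD2 : Nat × Nat × (Nat × Nat × List Nat × List Nat) × (Nat × Nat × List Nat × List Nat) :=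
  (18583192113457081247881481404339791, 756866598872186465188310701859024439, (0, 1, [0, 0, 1, 0, 1, 0, 0, 1, 0, 0, 0, 1, 0, 0, 0, 1], [1, 0, 0, 0, 1, 1, 0, 0, 1, 0, 0, 0, 1, 0, 1, 1, 0, 0, 0, 0, 0, 1]), (0, 5, [0, 0, 0, 0, 1, 0, 0, 0, 0, 0, 0, 0, 1, 1, 0, 0, 0], [0, 0, 1, 1, 0, 0, 1, 1, 0, 0, 0, 1, 0, 1, 0, 0, 1, 1, 0, 0, 0]))

/-- The standard carrier of the line trio. -/
def rF : Nat × Nat × (Nat × Nat × List Nat × List Nat) × (Nat × Nat × List Nat × List Nat) :=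
  (971350681060041212473781697893244945, 966198755407050160218693825969270241, (0, 15, [1, 0, 1, 0, 0, 1, 0, 0, 0, 1, 0, 0, 0, 1, 0, 0], [1, 1, 0, 1, 1, 0, 0, 1, 0, 1, 0, 0, 0, 0, 0, 1, 0, 0, 1, 0, 0]), (0, 5, [0, 0, 0, 0, 1, 0, 0, 0, 0, 0, 0, 0, 1, 1, 0, 0, 0], [1, 0, 0, 0, 1, 0, 0, 1, 0, 0, 0, 0, 1, 1, 0, 0, 0, 0, 0, 0, 1, 0]))

/-- Equality. -/
def qD : Nat × (Nat × (Nat × Nat × List Nat × List Nat)) :=
  (963846053566570639434635772923468333, (1, (0, 11, [1, 0, 1, 0, 0, 0, 0, 0, 0, 0, 0, 1, 0, 1, 0], [0, 1, 1, 0, 1, 0, 1, 1, 0, 0, 0, 0, 1, 0, 0, 0, 0, 0, 0, 1, 1])))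

/-- Equality. -/
def qSD : Nat × (Nat × (Nat × Nat × List Nat × List Nat)) :=
  (756866598872186465188310701859024439, (0, (0, 4, [0, 0, 0, 0, 0, 0, 0], [0, 1, 0, 1, 0, 0, 0, 0, 0, 1, 1, 0, 0, 0, 1, 0, 0, 1, 0, 0])))

/-- Equality. -/
def qSD2 : Nat × (Nat × (Nat × Nat × List Nat × List Nat)) :=
  (963846053566570639434635772923468333, (0, (0, 1, [0, 0, 1, 0, 1, 0, 0, 1, 0, 0, 0, 1, 0, 0, 0, 1], [0, 0, 1, 0, 1, 1, 0, 0, 0, 0, 0, 1, 0, 1, 1, 0, 1])))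

/-- The frame of the octad shared with the first. -/
def g2 : Nat :=
  875856856973842689536881616931215721

/-- Its inverse. -/
def g2i : Nat :=
  875856856973842689536881616931215721

/-- The carrier of the first trio there. -/
def rA2 : Nat × Nat × (Nat × Nat × List Nat × List Nat) × (Nat × Nat × List Nat × List Nat) :=
  (984818244535754528103549039458486304, 984818244535754528103549039458486304, (0, 0, [], []), (0, 0, [], []))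

/-- The carrier of the line trio there. -/
def rF2 : Nat × Nat × (Nat × Nat × List Nat × List Nat) × (Nat × Nat × List Nat × List Nat) :=
  (971350681060041212473781697893244945, 966198755407050160218693825969270241, (0, 15, [1, 0, 1, 0, 0, 1, 0, 0, 0, 1, 0, 0, 0, 1, 0, 0], [1, 1, 0, 1, 1, 0, 0, 1, 0, 1, 0, 0, 0, 0, 0, 1, 0, 0, 1, 0, 0]), (0, 5, [0, 0, 0, 0, 1, 0, 0, 0, 0, 0, 0, 0, 1, 1, 0, 0, 0], [1, 0, 0, 0, 1, 0, 0, 1, 0, 0, 0, 0, 1, 1, 0, 0, 0, 0, 0, 0, 1, 0]))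

/-- Equality. -/
def qA2 : Nat × (Nat × (Nat × Nat × List Nat × List Nat)) :=
  (984818244535754528103549039458486304, (2, (0, 3, [1, 1, 0, 0, 0, 0, 0, 0, 0, 1], [1, 0, 0, 0, 0, 0, 0, 1, 0, 0, 0, 0, 1, 0, 1, 1, 0, 0, 0, 1])))

/-- Equality. -/
def qF2 : Nat × (Nat × (Nat × Nat × List Nat × List Nat)) :=
  (966198755407050160218693825969270241, (1, (0, 12, [0, 0, 0, 0, 0, 0, 1, 1, 0, 0, 0, 0, 0, 0, 0, 1, 0], [1, 0, 1, 0, 1, 0, 0, 0, 0, 0, 1, 0, 1, 1, 0, 0, 1, 1, 0, 1, 1])))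

/-- The pairs: element, its image in the second frame, the conjugate there, the conjugate here. -/
def gens : List (((Nat × Nat) × (Nat × Nat × List Nat × List Nat)) × ((Nat × Nat) × (Nat × Nat × List Nat × List Nat)) × ((Nat × Nat) × (Nat × Nat × List Nat × List Nat)) × ((Nat × Nat) × (Nat × Nat × List Nat × List Nat))) :=
  [(((1947, 810454308213810530987375280394539442), (46, 3, [1, 1, 0, 0, 0, 0, 0, 0, 0, 1], [1, 0, 1, 0, 0, 0, 1, 0, 0, 1, 0, 0, 0, 1, 1, 0, 0, 1, 0, 1, 1, 0])), ((904, 62607639710912383706155892356092461), (53, 12, [0, 0, 0, 0, 0, 0, 1, 1, 0, 0, 0, 0, 0, 0, 0, 1, 0], [0, 0, 0, 0, 1, 0, 0, 0, 1, 0, 0, 1, 1, 0, 0, 1, 0, 1])), ((904, 810298009069418125578999866310597207), (53, 4, [0, 0, 0, 0, 0, 0, 0], [1, 0, 1, 0, 0, 0, 1, 0, 0, 0, 0, 0, 1, 0, 1, 0, 0, 0, 0, 0, 1])), ((1947, 793421917064886720017055943338693197), (46, 3, [1,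 1, 0, 0, 0, 0, 0, 0, 0, 1], [1, 0, 0, 1, 0, 0, 0, 0, 0, 0, 1, 0, 0, 1, 1, 0, 1, 0, 1, 1]))),
   (((493, 753113105395804039919641391664283699), (14, 7, [1, 0, 0, 0, 0, 0, 0, 0, 1, 1], [0, 0, 1, 1, 0, 1, 0, 0, 0, 1, 0, 1, 0, 0, 0, 0, 0, 1, 0, 0, 1, 0])), ((1534, 545786474127593592832171349035303393), (51, 8, [1, 0, 1, 0, 1, 0, 0, 0, 0, 0, 0, 0, 0, 1, 0], [0, 1, 1, 0, 0, 1, 0, 1, 0, 1, 1, 0, 0, 0, 1, 0, 0, 1, 0, 0, 1, 1, 0])), ((1534, 711939821133439187875518062722027104), (51, 7, [1, 0, 0, 0, 0, 0, 0, 0, 1, 1], [0, 1, 1, 0, 0, 0, 1, 0, 1, 1, 0, 0, 1, 1, 0, 1])), ((493, 756308297962567872349310659242050016), (14, 7, [1, 0, 0, 0, 0, 0, 0, 0, 1, 1], [1, 0, 1, 0, 1, 1, 0, 1, 0, 0, 1, 1, 0, 0, 0, 0, 1, 0, 1, 0]))),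
   (((643, 753344486308412495294764878907312751), (54, 15, [1, 0, 1, 0, 0, 1, 0, 0, 0, 1, 0, 0, 0, 1, 0, 0], [0, 0, 0, 1, 0, 0, 0, 1, 0, 1, 0, 0, 0, 0, 1, 1, 0])), ((1454, 70691233265357511970971359088066999), (19, 0, [], [0, 0, 1, 0, 1, 0, 0, 1, 1, 0, 0, 0, 0, 0, 1, 1, 0, 0])), ((1454, 652228695060023001215505084023310929), (19, 7, [1, 0, 0, 0, 0, 0, 0, 0, 1, 1], [0, 0, 0, 0, 0, 0, 1, 0, 1, 0, 0, 0, 1, 0, 1, 0, 1, 1])), ((643, 776749158954472124061572670899358195), (54, 15, [1, 0, 1, 0, 0, 1, 0, 0, 0, 1, 0, 0, 0, 1, 0, 0], [0, 1, 0, 0, 0, 0, 0, 0, 0, 0, 0, 0, 1, 1, 0, 1, 0, 1, 0, 0, 0])))]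

/-- The elements to be centralised: word, word of the conjugate, certificate of the transported image. -/
def cents : List (List Nat × List Nat × (Nat × Nat × List Nat × List Nat)) :=
  [([1, 2, 0, 1, 0, 2], [1, 2, 0, 1, 2, 2, 0, 2, 2], (22, 0, [], [])),
   ([0], [0], (30, 0, [], [1, 1, 0, 0, 0, 0, 0, 0, 0, 1])),
   ([2, 0, 2, 2], [2, 0, 2, 2], (1, 0, [], [1, 1, 0, 0, 0, 0, 0, 0, 0, 1])),
   ([2, 2, 0, 2], [2, 2, 0, 2], (25, 0, [], [1, 1, 0, 0, 0, 0, 0, 0, 0, 1])),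
   ([1, 0, 2, 1, 2], [1, 0, 2, 1, 2], (63, 0, [], [1, 1, 0, 0, 0, 0, 0, 0, 0, 1])),
   ([3, 3, 0, 3, 3], [3, 3, 0, 3, 3], (56, 0, [], [1, 0, 1, 0, 1, 0, 0, 0, 0, 0, 0, 0, 0, 1, 0])),
   ([1, 1, 0, 1, 1], [0, 1, 1, 0, 1, 1], (10, 0, [], [0, 1, 0, 1, 0, 0, 0, 0, 0, 0, 0, 0, 1, 0, 1])),
   ([3, 3], [0, 1, 0, 2, 1, 1, 3, 1, 1, 3], (29, 11, [1, 0, 1, 0, 0, 0, 0, 0, 0, 0, 0, 1, 0, 1, 0], [0, 1, 1, 0, 0, 0, 1, 0, 1, 0, 0, 0, 1, 0, 1, 0, 0, 1, 1, 0, 1, 0, 0, 0])),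
   ([1, 3, 3, 0, 2, 3], [1, 3, 3, 0, 2, 3], (31, 11, [1, 0, 1, 0, 0, 0, 0, 0, 0, 0, 0, 1, 0, 1, 0], [0, 1, 0, 0, 1, 1, 0, 1, 0, 1, 0, 0, 1, 0, 0])),
   ([2, 1, 2, 2, 1, 1], [2, 1, 2, 2, 1, 1], (32, 0, [], [1, 0, 1, 0, 1, 0, 0, 0, 1, 0, 0, 1, 0, 0, 1, 1, 0])),
   ([1, 3, 1, 3, 1, 3], [0, 1, 3, 1, 3, 1, 3], (21, 0, [], [0, 0, 0, 0, 0, 1, 1, 0, 0, 0, 0, 0, 0, 0, 1, 0, 0])),
   ([2, 1, 1, 2, 2], [1, 1, 0, 3, 2, 2, 1, 0, 3], (53, 11, [1, 0, 1, 0, 0, 0, 0, 0, 0, 0, 0, 1, 0, 1, 0], [1, 1, 0, 0, 0, 1, 0, 0, 0, 1, 0, 0, 0, 1, 1]))]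

/-- The transporting element. -/
def gq : Nat × List Nat :=
  (815, [18, 30, 7, 14, 3])

/-- Its inverse. -/
def gqi : Nat × List Nat :=
  (33, [27, 11, 20, 23, 10])

/-- The candidates with the certificates of their transports. -/
def cands : List ((Nat × List Nat) × (Nat × Nat × List Nat × List Nat)) :=
  [((0, [1, 2, 4, 8, 16]), (0, 0, [], [])),
   ((62, [1, 2, 4, 8, 16]), (17, 0, [], [])),
   ((448, [1, 2, 4, 8, 16]), (24, 0, [], [])),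
   ((510, [1, 2, 4, 8, 16]), (9, 0, [], [])),
   ((504, [1, 2, 4, 8, 16]), (55, 0, [], [])),
   ((454, [1, 2, 4, 8, 16]), (38, 0, [], [])),
   ((56, [1, 2, 4, 8, 16]), (47, 0, [], [])),
   ((6, [1, 2, 4, 8, 16]), (62, 0, [], [])),
   ((510, [6, 5, 4, 8, 16]), (55, 0, [], [1, 0, 1, 0, 0, 0, 0, 0, 0, 0, 0, 1, 0, 1, 0])),
   ((448, [6, 5, 4, 8, 16]), (38, 0, [], [1, 0, 1, 0, 0, 0, 0, 0, 0, 0, 0, 1, 0, 1, 0])),
   ((62, [6, 5, 4, 8, 16]), (47, 0, [], [1, 0, 1, 0, 0, 0, 0, 0, 0, 0, 0, 1, 0, 1, 0])),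
   ((0, [6, 5, 4, 8, 16]), (62, 0, [], [1, 0, 1, 0, 0, 0, 0, 0, 0, 0, 0, 1, 0, 1, 0])),
   ((6, [6, 5, 4, 8, 16]), (0, 0, [], [1, 0, 1, 0, 0, 0, 0, 0, 0, 0, 0, 1, 0, 1, 0])),
   ((56, [6, 5, 4, 8, 16]), (17, 0, [], [1, 0, 1, 0, 0, 0, 0, 0, 0, 0, 0, 1, 0, 1, 0])),
   ((454, [6, 5, 4, 8, 16]), (24, 0, [], [1, 0, 1, 0, 0, 0, 0, 0, 0, 0, 0, 1, 0, 1, 0])),
   ((504, [6, 5, 4, 8, 16]), (9, 0, [], [1, 0, 1, 0, 0, 0, 0, 0, 0, 0, 0, 1, 0, 1, 0]))]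

/-- The word of the order relation. -/
def wOrd : List Nat :=
  [2, 0, 1]

/-- Its order. -/
def nOrd : Nat :=
  3

/-- The last candidate. -/
def cED : Nat :=
  960796265644511697179202340874633248

/-- Certificate. -/
def wED : Nat × Nat × List Nat × List Nat :=
  (0, 7, [1, 0, 0, 0, 0, 0, 0, 0, 1, 1], [1, 0, 0, 0, 0, 0, 0, 0, 1, 1])

/-- An element exchanging the two trios. -/
def ck : Nat :=
  901391336952328784458503262992177806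

/-- The image of the last candidate. -/
def cEA : Nat :=
  546069000317208675089554172763455489

/-- Equality. -/
def qKA : Nat × (Nat × (Nat × Nat × List Nat × List Nat)) :=
  (963846053566570639434635772923468333, (1, (0, 10, [0, 1, 0, 0, 0, 0, 0, 0, 0, 0, 1, 0, 1, 0, 1], [0, 0, 0, 0, 0, 0, 0, 1, 0, 1, 0, 0, 0, 1, 0, 0, 1, 0, 0, 0, 1])))

/-- Equality. -/
def qKD : Nat × (Nat × (Nat × Nat × List Nat × List Nat)) :=
  (432389961972998128797042003659608641, (2, (0, 10, [0, 1, 0, 0, 0, 0, 0, 0, 0, 0, 1, 0, 1, 0, 1], [0, 1, 0, 0, 0, 1, 0, 1, 0, 0, 0, 1, 0, 1, 1, 0, 0, 0, 0])))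

/-- Equality. -/
def qKF : Nat × (Nat × (Nat × Nat × List Nat × List Nat)) :=
  (966198755407050160218693825969270241, (1, (0, 1, [0, 0, 1, 0, 1, 0, 0, 1, 0, 0, 0, 1, 0, 0, 0, 1], [0, 0, 0, 0, 0, 0, 1, 1, 0, 1, 0, 1, 0, 0, 0, 1, 1, 0, 0, 1, 0])))

end Cfsg.Agent.Lib.J4Uniq13.DataRel
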