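/-!
# Data: the symmetric generator over one trio
-/

set_option autoImplicit false

namespace Cfsg.Agent.Lib.J4Uniq13.DataTrio

/-- The columns of the symmetric generator. -/
def gTau : List Nat :=
  [17, 2, 20, 8, 16]

/-- Order seven. -/
def cs : Nat :=
  797875213545460348078177765944559663

/-- An involution fixing the octad. -/
def csg : Nat :=
  967150998107068424814075433960756256

/-- Order three, permuting the octads. -/
def cr : Nat :=
  515400246127226304709783835397215304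

/-- Its inverse. -/
def cri : Nat :=
  427152146688536986490360384911410862

/-- An involution of the kernel. -/
def ce : Nat :=
  962750882686369159848927527195184704

/-- Its conjugate under the inverse of the element of order three. -/
def ce1 : Nat :=
  651803182293720432925631652692068973

/-- Its conjugate under the element of order three. -/
def ce2 : Nat :=
  19011731679603474411757632108080183

/-- A vector fixed by the first two. -/
def v : Nat :=
  793

/-- Certificate. -/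
def wS : Nat × Nat × List Nat × List Nat :=
  (0, 0, [], [1, 0, 0, 1, 1, 0, 0, 0, 0, 1, 0, 0, 0, 1, 1, 0, 0, 1, 0])

/-- Certificate. -/
def wSg : Nat × Nat × List Nat × List Nat :=
  (0, 1, [0, 0, 1, 0, 1, 0, 0, 1, 0, 0, 0, 1, 0, 0, 0, 1], [0, 0, 1, 0, 1, 0, 0, 1, 0, 0, 0, 1, 0, 0, 0, 1])

/-- Certificate. -/
def wV : Nat × Nat × List Nat × List Nat :=
  (0, 1, [0, 0, 1, 0, 1, 0, 0, 1, 0, 0, 0, 1, 0, 0, 0, 1], [])

/-- Certificate. -/
def wE : Nat × Nat × List Nat × List Nat :=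
  (0, 8, [1, 0, 1, 0, 1, 0, 0, 0, 0, 0, 0, 0, 0, 1, 0], [1, 1, 0, 1, 0, 0, 0, 0, 1, 1, 0, 1, 0, 0, 0, 0, 1, 0, 1, 1])

/-- Certificate. -/
def wE1 : Nat × Nat × List Nat × List Nat :=
  (0, 0, [], [0, 1, 0, 1, 0, 1, 1, 0, 0, 1, 0, 0, 1, 0, 0, 0, 1])

/-- Certificate. -/
def wE2 : Nat × Nat × List Nat × List Nat :=
  (0, 5, [0, 0, 0, 0, 1, 0, 0, 0, 0, 0, 0, 0, 1, 1, 0, 0, 0], [1, 0, 0, 1, 0, 1, 0, 0, 0, 0, 0, 1, 0, 0, 0, 1, 1])

/-- The frame: takes the base trio to the standard one. -/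
def g0 : Nat :=
  896609910031537922293438665954930381

/-- Its inverse. -/
def g0i : Nat :=
  874553880031635497227130745687193775

/-- The image of x. -/
def cX2 : Nat :=
  151010634678647306528395025609110824

/-- Certificate. -/
def tX : Nat × (Nat × Nat × List Nat × List Nat) :=
  (2, (0, 3, [1, 1, 0, 0, 0, 0, 0, 0, 0, 1], [1, 0, 0, 0, 0, 0, 0, 1, 0, 0, 0, 0, 1, 0, 1, 1, 0, 0, 0, 1]))

/-- The image of the second generator of the trio group. -/
def cT2 : Nat :=
  271825737604227201581231005202948564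

/-- Certificate. -/
def tT : Nat × (Nat × Nat × List Nat × List Nat) :=
  (1, (0, 14, [0, 1, 0, 0, 0, 0, 0, 0, 0, 1, 1, 0, 0, 0, 0, 0, 0], [1, 1, 0, 0, 0, 1, 1, 0, 1, 0, 1, 1, 0, 0, 1, 1, 0, 1, 0]))

/-- The image of y conjugated. -/
def cY2 : Nat :=
  56679896137679642313281618345401920

/-- Certificate. -/
def wY2 : Nat × Nat × List Nat × List Nat :=
  (0, 13, [0, 1, 0, 1, 0, 0, 0, 0, 0, 0, 0, 0, 1, 0, 1], [1, 0, 1, 1, 0, 0, 0, 0, 0, 0, 0, 0, 0, 1, 0, 1, 0, 0, 1, 1, 0, 0])

end Cfsg.Agent.Lib.J4Uniq13.DataTrio
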