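import Cfsg.Agent.Lib.J4Uniq13.NVal

/-!
# A complement of the standard `2^10` in its normaliser as the group of five columns

`Frame C A B gA gB`: a complement containing the twisted lifts of two permutations, with actions given
by columns.  `Rep F x p`: the element `x` of the normaliser has coordinates `p`.
-/

set_option autoImplicit false
set_option linter.unusedSectionVars false

namespace Cfsg.Agent.Lib.J4Uniq13

open Cfsg Cfsg.Agent.Lib.Computation Cfsg.Agent.Lib.Golay Cfsg.Agent.Lib.J4Order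
open Cfsg.Agent.Lib.J4Ten (cj)

variable {G : Type*} [Group G] [Finite G] {z : G}

/-- Columns within range. -/
def GGood (g : List ℕ) : Prop := g.length = 5 ∧ ∀ u ∈ g, u < 32

theorem ggood_of {g : List ℕ} (h : gOk g = true) : GGood g := by
  simp only [gOk, Bool.and_eq_true, Nat.beq_eq, List.all_eq_true, Nat.blt, Nat.ble_eq] at h
  exact ⟨h.1, fun u hu => h.2 u hu⟩

theorem ggood_idCols : GGood idCols := ggood_of (by decide +kernel)

theorem add5_combine {g : List ℕ} (hg : GGood g) : J4Ten.Add5 fun u => combine g u :=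
  ⟨fun u _ => (J4Ten.combine_of_add id (n := 5) (fun _ _ _ _ => rfl) g hg.2 u).1,
    fun u _ v _ => combine_xor g u v⟩

theorem wMat_lt {g : List ℕ} (hg : GGood g) (a : ℕ) : combine (wMat g) a < 1024 :=
  (J4Ten.wCols_facts (add5_combine hg)).2.2 a

theorem ggood_mul {g h : List ℕ} (hg : GGood g) (hh : GGood h) :
    GGood (h.map fun u => combine g u) :=
  ⟨by rw [List.length_map]; exact hh.1, fun u hu => by
    obtain ⟨v, hv, rfl⟩ := List.mem_map.mp hu
    exact (add5_combine hg).1 v (hh.2 v hv)⟩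

theorem wMat_mul {g h : List ℕ} (hg : GGood g) (hh : GGood h) {a : ℕ} (ha : a < 1024) :
    combine (wMat (h.map fun u => combine g u)) a = combine (wMat g) (combine (wMat h) a) := by
  rw [wMat, J4Ten.wCols_congr (g := fun u => combine g (combine h u)) (fun u _ => ?_)]
  · exact J4Ten.wCols_comp (add5_combine hg) (add5_combine hh) ha
  · exact ((J4Ten.combine_of_add (fun u => combine g u) (n := 5) (add5_combine hg).2 h hh.2 u).2).symm

theorem wMat_id {a : ℕ} (ha : a < 1024) : combine (wMat idCols) a = a := by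
  rw [wMat, J4Ten.wCols_congr (f := fun u => combine idCols u) (g := id) fun u hu => J4Ten.combine_basis5 u hu]
  exact J4Ten.wCols_id ha

namespace Ctx

variable (C : Ctx z)

/-- The element acts on the standard `2^10` by the columns. -/
def Img (n : G) (g : List ℕ) : Prop :=
  ∀ a < 1024, cj n (C.T.chi a) = C.T.chi (combine (wMat g) a)

theorem img_one : C.Img 1 idCols := fun a ha => by
  rw [wMat_id ha]
  simp [cj]

theorem img_mul {m n : G} {g h : List ℕ} (hg : GGood g) (hh : GGood h) (hm : C.Img m g)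
    (hn : C.Img n h) : C.Img (m * n) (h.map fun u => combine g u) := fun a ha => by
  rw [wMat_mul hg hh ha, J4Ten.cj_mul, hn a ha, hm _ (wMat_lt hh a)]

end Ctx

/-- The complement with the two marked elements. -/
structure Frame (C : Ctx z) (A B : ℕ) (gA gB : List ℕ) where
  /-- The complement. -/
  sub : Subgroup G
  le : sub ≤ Subgroup.normalizer (C.T.stdA : Set G)
  disj : ∀ x ∈ sub, x ∈ C.T.stdA → x = 1
  inj : ∀ n ∈ sub, (∀ a < 1024, cj n (C.T.chi a) = C.T.chi a) → n = 1
  memA : C.nv (twP A) ∈ sub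
  memB : C.nv (twP B) ∈ sub
  ggA : GGood gA
  ggB : GGood gB
  imgA : C.Img (C.nv (twP A)) gA
  imgB : C.Img (C.nv (twP B)) gB
  surj : ∀ g gi : List ℕ, gOk g = true → gOk gi = true →
    leq (gi.map fun u => combine g u) idCols = true →
    leq (g.map fun u => combine gi u) idCols = true → ∃ n ∈ sub, C.Img n g

namespace Frame

variable {C : Ctx z} {A B : ℕ} {gA gB : List ℕ} (F : Frame C A B gA gB)

/-- The element `x` has coordinates `p`. -/
def Rep (x : G) (p : ℕ × List ℕ) : Prop :=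
  p.1 < 1024 ∧ GGood p.2 ∧ ∃ b ∈ F.sub, C.Img b p.2 ∧ x = C.T.chi p.1 * b

theorem rep_unique {x y : G} {p : ℕ × List ℕ} (hx : F.Rep x p) (hy : F.Rep y p) : x = y := by
  obtain ⟨-, -, b, hb, hbi, rfl⟩ := hx
  obtain ⟨-, -, c, hc, hci, rfl⟩ := hy
  have h := F.inj (c⁻¹ * b) (mul_mem (inv_mem hc) hb) fun a ha => by
    rw [J4Ten.cj_mul, hbi a ha, ← hci a ha, J4Ten.cj_inv_cancel]
  rw [inv_mul_eq_one] at h
  rw [h]

theorem rep_congr {x : G} {p q : ℕ × List ℕ} (hx : F.Rep x p) (h : aeq p q = true) : F.Rep x q :=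
  aeq_eq h ▸ hx

theorem eq_of_reps {x y : G} {p q : ℕ × List ℕ} (hx : F.Rep x p) (hy : F.Rep y q)
    (h : aeq p q = true) : x = y :=
  F.rep_unique (F.rep_congr hx h) hy

theorem rep_one : F.Rep 1 aone :=
  ⟨by decide, ggood_idCols, 1, one_mem _, C.img_one, by simp [aone, C.T.chi_zero]⟩

theorem rep_chi {a : ℕ} (ha : a < 1024) : F.Rep (C.T.chi a) (a, idCols) :=
  ⟨ha, ggood_idCols, 1, one_mem _, C.img_one, (mul_one _).symm⟩

theorem rep_img {n : G} {g : List ℕ} (hg : GGood g) (hn : n ∈ F.sub) (hi : C.Img n g) :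
    F.Rep n (0, g) :=
  ⟨show (0 : ℕ) < 1024 by norm_num, hg, n, hn, hi, by rw [C.T.chi_zero, one_mul]⟩

theorem rep_mul {x y : G} {p q : ℕ × List ℕ} (hx : F.Rep x p) (hy : F.Rep y q) :
    F.Rep (x * y) (amul p q) := by
  obtain ⟨ha, hg, b, hb, hbi, rfl⟩ := hx
  obtain ⟨hc, hh, d, hd, hdi, rfl⟩ := hy
  refine ⟨Nat.xor_lt_two_pow (n := 10) ha (wMat_lt hg _), ggood_mul hg hh, b * d, mul_mem hb hd,
    C.img_mul hg hh hbi hdi, ?_⟩
  show _ = C.T.chi (p.1 ^^^ combine (wMat p.2) q.1) * _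
  rw [C.T.chi_mul ha (wMat_lt hg _), ← hbi _ hc, J4Ten.cj_apply]
  group

theorem rep_pow {x : G} {p : ℕ × List ℕ} (hx : F.Rep x p) : ∀ n : ℕ, F.Rep (x ^ n) (apow p n)
  | 0 => by rw [pow_zero]; exact F.rep_one
  | n + 1 => by rw [pow_succ]; exact F.rep_mul (rep_pow hx n) hx

theorem ne_one {x : G} {p : ℕ × List ℕ} (hx : F.Rep x p) (h : ane p = true) : x ≠ 1 := by
  rintro rfl
  obtain ⟨ha, hg, b, hb, hbi, he⟩ := hx
  have hb' : b = C.T.chi p.1 :=
    (inv_eq_of_mul_eq_one_right he.symm).symm.trans (inv_eq_of_mul_eq_one_left (C.T.chi_sq ha))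
  have hb1 : b = 1 := F.disj b hb (hb' ▸ C.T.chi_mem ha)
  have ha0 : p.1 = 0 := C.T.chi_eq_one ha (hb'.symm.trans hb1)
  simp only [ane, ha0, Bool.or_eq_true, Bool.not_eq_true', List.any_eq_true, List.mem_range,
    Nat.beq_refl, Bool.true_eq_false, false_or] at h
  obtain ⟨i, hi, hne⟩ := h
  have hlt : 2 ^ i < 1024 := Nat.pow_lt_pow_right (by norm_num) hi |>.trans_eq (by norm_num)
  have h2 := hbi _ hlt
  rw [hb1, show cj (1 : G) (C.T.chi (2 ^ i)) = C.T.chi (2 ^ i) by simp [cj]] at h2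
  have h3 := C.T.chi_inj hlt (wMat_lt hg _) h2
  rw [← h3, Nat.beq_refl] at hne
  exact Bool.noConfusion hne

theorem rep_word (hA : Good A) (hB : Good B) : ∀ w,
    F.Rep (C.nv (twP (cword A B w))) (aword (0, gA) (0, gB) w)
  | [] => by
    rw [cword, C.nv_twP good_one, el_one, map_one]
    exact F.rep_one
  | l :: w => by
    rw [cword, aword]
    cases Nat.beq l 0 with
    | false =>
      simp only [cond_false]
      rw [C.nv_twP (good_mulP hB (good_cword hA hB w)), el_mul hB (good_cword hA hB w), map_mul,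
        ← C.nv_twP hB, ← C.nv_twP (good_cword hA hB w)]
      exact F.rep_mul (F.rep_img F.ggB F.memB F.imgB) (rep_word hA hB w)
    | true =>
      simp only [cond_true]
      rw [C.nv_twP (good_mulP hA (good_cword hA hB w)), el_mul hA (good_cword hA hB w), map_mul,
        ← C.nv_twP hA, ← C.nv_twP (good_cword hA hB w)]
      exact F.rep_mul (F.rep_img F.ggA F.memA F.imgA) (rep_word hA hB w)

end Frame

end Cfsg.Agent.Lib.J4Uniq13
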