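import Cfsg.Agent.Lib.FusionAlperin.MathieuCert
import Cfsg.Agent.Lib.J4Uniq13.FrameDef
import Cfsg.Agent.Lib.J4Uniq13.DataFrame
import Cfsg.Agent.Lib.J4Uniq13.DataTrio

/-!
# Coordinates of elements of `N(V) ∩ N(A)` and the conjugates of the symmetric generator
-/

set_option autoImplicit false
set_option linter.unusedSectionVars false
set_option maxRecDepth 20000

namespace Cfsg.Agent.Lib.J4Uniq13

open Cfsg Cfsg.Agent.Lib.Computation Cfsg.Agent.Lib.Golay Cfsg.Agent.Lib.J4Order

/-- A certificate: two numbers and two words. -/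
abbrev Cert : Type := ℕ × ℕ × List ℕ × List ℕ

/-- The frame on the marked elements of the data. -/
abbrev Fr {G : Type*} [Group G] [Finite G] {z : G} (C : Ctx z) : Type _ :=
  Frame C DataFrame.cA DataFrame.cB DataFrame.gA DataFrame.gB

/-- The value of a word. -/
def wRep (w : List ℕ) : ℕ × List ℕ := aword (0, DataFrame.gA) (0, DataFrame.gB) w

/-- The code of a word. -/
def wCode (w : List ℕ) : ℕ := cword DataFrame.cA DataFrame.cB w

/-- The coordinates given by a certificate. -/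
def certRep (w : Cert) : ℕ × List ℕ :=
  amul (amul (w.1, idCols) (wRep w.2.2.1)) (amul (64 * w.2.1, idCols) (wRep w.2.2.2))

/-- The certificate fits the pair. -/
def certOk (q : ℕ × ℕ) (w : Cert) : Bool :=
  Nat.blt w.1 64 && Nat.blt w.2.1 16 && nOk q &&
    neq' (nmul (nmul (chiP w.1) (twP (wCode w.2.2.1)))
      (nmul (chiP (64 * w.2.1)) (twP (wCode w.2.2.2)))) q

/-- The powers of the element of order three. -/
def rPow (j : ℕ) : ℕ := bif Nat.beq j 0 then oneCode else bif Nat.beq j 1 then DataTrio.cr else DataTrio.cri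

/-- The coordinates of the symmetric generator. -/
def tauRep : ℕ × List ℕ := (0, DataTrio.gTau)

/-- The permutation commutes with the symmetric generator. -/
def tcOk (c : ℕ) (w : ℕ × Cert) : Bool :=
  inM24 c && certOk (0, mulP 24 5 (rPow w.1) c) w.2 &&
    aeq (amul tauRep (certRep w.2)) (amul (certRep w.2) tauRep)

/-- Two carriers give the same conjugate. -/
def eqtOk (c₁ c₂ : ℕ) (w : ℕ × ℕ × Cert) : Bool :=
  inM24 c₁ && inM24 c₂ && inM24 w.1 && cEq (mulP 24 5 w.1 c₂) oneCode &&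
    tcOk (mulP 24 5 w.1 c₁) w.2

/-- A carrier in the octad stabiliser. -/
def rtOk (w : ℕ × ℕ × Cert × Cert) : Bool :=
  certOk (0, w.1) w.2.2.1 && certOk (0, w.2.1) w.2.2.2 && cEq (mulP 24 5 w.1 w.2.1) oneCode

/-- The coordinates of the conjugate. -/
def rtRep (w : ℕ × ℕ × Cert × Cert) : ℕ × List ℕ :=
  amul (amul (certRep w.2.2.1) tauRep) (certRep w.2.2.2)

theorem marks_ok : (inM24 DataFrame.cA && inM24 DataFrame.cB && inM24 DataTrio.cr &&
    inM24 DataTrio.cri && cEq (mulP 24 5 DataTrio.cr DataTrio.cri) oneCode) = true := by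
  decide +kernel

attribute [local irreducible] mulP inM24 oneCode

theorem good_cA : Good DataFrame.cA ∧ Good DataFrame.cB ∧ Good DataTrio.cr ∧ Good DataTrio.cri := by
  have h := marks_ok
  simp only [Bool.and_eq_true] at h
  exact ⟨good_of_inM24 h.1.1.1.1, good_of_inM24 h.1.1.1.2, good_of_inM24 h.1.1.2, good_of_inM24 h.1.2⟩

theorem rPow_cases (j : ℕ) :
    rPow j = oneCode ∨ rPow j = DataTrio.cr ∨ rPow j = DataTrio.cri := by
  unfold rPow
  cases Nat.beq j 0 <;> cases Nat.beq j 1 <;> simp only [cond_true, cond_false, true_or, or_true]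

theorem good_rPow (j : ℕ) : Good (rPow j) := by
  rcases rPow_cases j with h | h | h <;> rw [h]
  · exact good_one
  · exact good_cA.2.2.1
  · exact good_cA.2.2.2

variable {G : Type*} [Group G] [Finite G] {z : G}

namespace Ctx

variable (C : Ctx z)

theorem kap_mul {a b : ℕ} (ha : Good a) (hb : Good b) :
    C.M.κ (el (mulP 24 5 a b)) = C.M.κ (el a) * C.M.κ (el b) := by rw [el_mul ha hb, map_mul]

theorem kap_eq {a b : ℕ} (ha : Good a) (hb : Good b) (h : cEq a b = true) :
    C.M.κ (el a) = C.M.κ (el b) := by rw [el_congr ha hb h]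

theorem kap_one : C.M.κ (el oneCode) = 1 := by rw [el_one, map_one]

theorem kap_inv {a b : ℕ} (ha : Good a) (hb : Good b) (h : cEq (mulP 24 5 a b) oneCode = true) :
    C.M.κ (el b) = (C.M.κ (el a))⁻¹ :=
  eq_inv_of_mul_eq_one_right (by rw [← C.kap_mul ha hb, C.kap_eq (good_mulP ha hb) good_one h, C.kap_one])

theorem kap_ne {a b : ℕ} (ha : Good a) (hb : Good b) (h : cEq a b = false) :
    C.M.κ (el a) ≠ C.M.κ (el b) := by
  intro he
  have h1 : el a = el b := inv_mul_eq_one.mp (C.M.meet (by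
    rw [map_mul, map_inv, he, inv_mul_cancel]; exact one_mem _))
  have h2 : cEq a b = true := by
    simp only [cEq, List.all_eq_true, List.mem_range, Nat.beq_eq]
    exact fun i hi => FusionAlperin.MathieuCert.getW_eq_of_gperm ha.1 hb.1
      (by rw [← el_coe ha.2, ← el_coe hb.2, h1]) hi
  exact Bool.noConfusion (h.symm.trans h2)

/-- The conjugate of an element by a lifted permutation. -/
noncomputable def tOf (τ : G) (c : ℕ) : G := C.M.κ (el c) * τ * (C.M.κ (el c))⁻¹

theorem tOf_mul (τ : G) {a b : ℕ} (ha : Good a) (hb : Good b) :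
    C.tOf τ (mulP 24 5 a b) = C.M.κ (el a) * C.tOf τ b * (C.M.κ (el a))⁻¹ := by
  simp only [tOf, C.kap_mul ha hb]
  group

theorem tOf_one (τ : G) : C.tOf τ oneCode = τ := by simp [tOf, C.kap_one]

end Ctx

namespace Frame

variable {C : Ctx z} (F : Fr C)

theorem rep_cert {q : ℕ × ℕ} {w : Cert} (h : certOk q w = true) : F.Rep (C.nv q) (certRep w) := by
  obtain ⟨k, i, wr, ws⟩ := w
  simp only [certOk, Bool.and_eq_true, Nat.blt, Nat.ble_eq] at h
  obtain ⟨⟨⟨hk, hi⟩, hq⟩, he⟩ := h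
  have hA := good_cA.1
  have hB := good_cA.2.1
  have hk' : k < 1024 := by omega
  have hi' : 64 * i < 1024 := by omega
  have g1 := Ctx.ngood_twP (good_cword hA hB wr)
  have g2 := Ctx.ngood_twP (good_cword hA hB ws)
  have hx := ngood_nmul (ngood_chiP hk') g1
  have hy := ngood_nmul (ngood_chiP hi') g2
  rw [← C.nv_congr (ngood_nmul hx hy) (ngood_of hq) he]
  rw [← C.nv_mul hx hy, ← C.nv_mul (ngood_chiP hk') g1, ← C.nv_mul (ngood_chiP hi') g2,
    C.nv_chiP hk', C.nv_chiP hi']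
  exact F.rep_mul (F.rep_mul (F.rep_chi hk') (F.rep_word hA hB wr))
    (F.rep_mul (F.rep_chi hi') (F.rep_word hA hB ws))

theorem rep_kap {c : ℕ} {w : Cert} (h : certOk (0, c) w = true) :
    F.Rep (C.M.κ (el c)) (certRep w) := C.nv_el c ▸ F.rep_cert h

/-- Elements with commuting coordinates commute. -/
theorem commute_of_reps {x y : G} {p q : ℕ × List ℕ} (hx : F.Rep x p) (hy : F.Rep y q)
    (h : aeq (amul p q) (amul q p) = true) : Commute x y :=
  F.eq_of_reps (F.rep_mul hx hy) (F.rep_mul hy hx) h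

variable {τ : G} (hτ : F.Rep τ tauRep)
include hτ

/-- Commutation with a member of the trio group. -/
theorem commute_tau (hr : Commute τ (C.M.κ (el DataTrio.cr))) {c : ℕ} {w : ℕ × Cert}
    (h : tcOk c w = true) : Commute τ (C.M.κ (el c)) := by
  simp only [tcOk, Bool.and_eq_true] at h
  obtain ⟨⟨hc, hw⟩, he⟩ := h
  have hgc := good_of_inM24 hc
  have h1 := F.commute_of_reps hτ (F.rep_kap hw) he
  rw [C.kap_mul (good_rPow _) hgc] at h1
  have hm := marks_ok
  simp only [Bool.and_eq_true] at hm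
  have h2 : Commute τ (C.M.κ (el (rPow w.1))) := by
    rcases rPow_cases w.1 with e | e | e <;> rw [e]
    · rw [C.kap_one]
      exact Commute.one_right _
    · exact hr
    · rw [C.kap_inv good_cA.2.2.1 good_cA.2.2.2 hm.2]
      exact hr.inv_right
  have := h2.inv_right.mul_right h1
  rwa [inv_mul_cancel_left] at this

theorem tOf_eq (hr : Commute τ (C.M.κ (el DataTrio.cr))) {c₁ c₂ : ℕ} {w : ℕ × ℕ × Cert}
    (h : eqtOk c₁ c₂ w = true) : C.tOf τ c₁ = C.tOf τ c₂ := by
  simp only [eqtOk, Bool.and_eq_true] at h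
  obtain ⟨⟨⟨⟨h1, h2⟩, hi⟩, he⟩, ht⟩ := h
  have hh := F.commute_tau hτ hr ht
  rw [C.kap_mul (good_of_inM24 hi) (good_of_inM24 h1)] at hh
  have e : C.M.κ (el c₂) = (C.M.κ (el w.1))⁻¹ := C.kap_inv (good_of_inM24 hi) (good_of_inM24 h2) he
  simp only [Ctx.tOf, e]
  have h3 := hh.symm.eq
  calc C.M.κ (el c₁) * τ * (C.M.κ (el c₁))⁻¹
      = (C.M.κ (el w.1))⁻¹ * (C.M.κ (el w.1) * C.M.κ (el c₁) * τ) * (C.M.κ (el c₁))⁻¹ := by group
    _ = _ := by rw [h3]; group

theorem rep_tOf {w : ℕ × ℕ × Cert × Cert} (h : rtOk w = true) :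
    F.Rep (C.tOf τ w.1) (rtRep w) := by
  simp only [rtOk, Bool.and_eq_true] at h
  obtain ⟨⟨h1, h2⟩, h3⟩ := h
  have g : ∀ {c : ℕ} {u : Cert}, certOk (0, c) u = true → Good c := fun {c u} hu => by
    simp only [certOk, Bool.and_eq_true] at hu
    exact (ngood_of hu.1.2).2
  rw [Ctx.tOf, ← C.kap_inv (g h1) (g h2) h3]
  exact F.rep_mul (F.rep_mul (F.rep_kap h1) hτ) (F.rep_kap h2)

end Frame

end Cfsg.Agent.Lib.J4Uniq13
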