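import Cfsg.Agent.Lib.J4Uniq13.Calc
import Cfsg.Agent.Lib.J4Uniq13.DataFrame
import Cfsg.Agent.Lib.J4Order.AtCalc

/-!
# The checks behind the existence of the frame
-/

set_option autoImplicit false
set_option maxRecDepth 20000
set_option exponentiation.threshold 4096

namespace Cfsg.Agent.Lib.J4Uniq13.FrameChecks

open Cfsg.Agent.Lib.Computation Cfsg.Agent.Lib.Golay
open DataFrame

/-- The basis conjugations giving the columns of a twisted lift. -/
def basisOk (c : ℕ) (g : List ℕ) : Bool :=
  (List.range 10).all fun b =>
    let q := (wMat g).getD b 0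
    Nat.blt q 1024 && neq' (nmul (twP c) (chiP (2 ^ b))) (nmul (chiP q) (twP c))

/-- The translation normalising the first value. -/
def normOk : Bool :=
  (List.range 1024).all fun α =>
    let v := combine normMat α
    let a := α ^^^ v ^^^ combine (wMat gA) v
    Nat.blt v 1024 && (Nat.beq a 0 || Nat.beq a cA0)

/-- The relations used, the order of the second element included. -/
def rels' : List (List ℕ × ℕ) := ([1], 3) :: rels

/-- The translation part of a relation. -/
def relVal (r : List ℕ × ℕ) (α β : ℕ) : ℕ := (apow (aword (α, gA) (β, gB) r.1) r.2).1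

/-- Their columns in the second value. -/
def relCols : List (List ℕ) :=
  [[27, 39, 33, 18, 53, 58, 9, 46, 60, 39], [0, 0, 0, 0, 0, 0, 0, 0, 0, 439],
    [0, 0, 0, 0, 0, 0, 0, 0, 656, 0], [0, 0, 0, 0, 0, 0, 512, 512, 0, 512],
    [49, 43, 0, 26, 49, 49, 26, 49, 49, 0], [52, 0, 0, 52, 0, 52, 13, 57, 57, 13]]

/-- Their values at the two normal forms. -/
def relConst (α : ℕ) : List ℕ :=
  bif Nat.beq α 0 then [0, 0, 0, 0, 0, 0] else [0, 0, 656, 512, 49, 0]

/-- The relations leave four options. -/
def scanOk (α : ℕ) : Bool :=
  (List.range 1024).all fun β =>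
    !((relCols.zip (relConst α)).all fun q => Nat.beq (combine q.1 β) q.2) ||
      (Nat.beq α 0 && (Nat.beq β 0 || Nat.beq β 216 || bad.any fun e => Nat.beq e.1 β))

/-- The columns are those of the relations. -/
def colsOk : Bool :=
  leq (rels'.map fun r => relVal r cA0 0) (relConst cA0) &&
  leq (rels'.map fun r => relVal r 0 0) (relConst 0) &&
  (rels'.zip relCols).all fun q => leq ((List.range 10).map fun b => relVal q.1 0 (2 ^ b)) q.2

/-- A word whose permutation has the given order. -/
def ordOk (r : List ℕ × ℕ) : Bool :=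
  cEq ((List.range r.2).foldl (fun acc _ => mulP 24 5 acc (cword cA cB r.1)) oneCode) oneCode

/-- One half of an excluded option. -/
def halfOk (β : ℕ) (w : List ℕ) (n r : ℕ × ℕ) : Bool :=
  let p := aword (0, gA) (β, gB) w
  Nat.blt p.1 1024 && nOk n && nOk r &&
    let x := nmul (chiP p.1) (twP (cword cA cB w))
    neq' (nmul n x) (nmul r n)

/-- One excluded option. -/
def badOk (e : ℕ × (List ℕ × (ℕ × ℕ) × (ℕ × ℕ)) × (List ℕ × (ℕ × ℕ) × (ℕ × ℕ)) × List ℕ × List ℕ) : Bool :=
  match e with
  | (β, (w1, n1, r1), (w2, n2, r2), gh, ghi) =>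
    let g1 := (aword (0, gA) (β, gB) w1).2
    let g2 := (aword (0, gA) (β, gB) w2).2
    halfOk β w1 n1 r1 && halfOk β w2 n2 r2 &&
      neq' r1 (0, J4Order.AtCalc.stdA) && neq' r2 (0, J4Order.AtCalc.stdB) &&
      gOk gh && gOk ghi &&
      leq (ghi.map fun u => combine gh u) idCols && leq (gh.map fun u => combine ghi u) idCols &&
      leq (g1.map fun u => combine gh u) (gh.map fun u => combine g2 u)

theorem basis_A : basisOk cA gA = true := by decide +kernel

theorem basis_B : basisOk cB gB = true := by decide +kernel

theorem norm_ok : normOk = true := by decide +kernel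

theorem inM_A : inM24 cA = true := by decide +kernel

theorem inM_B : inM24 cB = true := by decide +kernel

theorem ggA : gOk gA = true := by decide +kernel

theorem ggB : gOk gB = true := by decide +kernel

theorem ord_ok : rels'.all ordOk = true := by decide +kernel

theorem cols_ok : colsOk = true := by decide +kernel

theorem scan_zero : scanOk 0 = true := by decide +kernel

theorem scan_cA0 : scanOk cA0 = true := by decide +kernel

theorem bad_ok : bad.all badOk = true := by decide +kernel

theorem inM_stdA : inM24 J4Order.AtCalc.stdA = true := by decide +kernel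

theorem inM_stdB : inM24 J4Order.AtCalc.stdB = true := by decide +kernel

theorem inner_ok : (Nat.beq (combine (wMat gA) 288) 288 &&
    Nat.beq (216 ^^^ 288 ^^^ combine (wMat gB) 288) 0) = true := by decide +kernel

end Cfsg.Agent.Lib.J4Uniq13.FrameChecks
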