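import Cfsg.Agent.Lib.J4Uniq13.FrameDef
import Cfsg.Agent.Lib.J4Uniq13.FrameChecks
import Cfsg.Agent.Lib.J4Ten.Split
import Cfsg.Agent.Lib.J4Order.AtTypes

/-!
# The complement with the two marked elements exists

A complement of the standard `2^10` in its normaliser contains lifts `χ α * tA`, `χ β * tB` of the two
twisted permutations.  Conjugation by a translation gives `α ∈ {0, 64}`; the relations leave `α = 0` and
four values of `β`; two of them are conjugate by a translation and the other two contradict the fusion.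
-/

set_option autoImplicit false
set_option linter.unusedSectionVars false
set_option maxRecDepth 10000

namespace Cfsg.Agent.Lib.J4Uniq13

open Cfsg Cfsg.Agent.Lib.Computation Cfsg.Agent.Lib.Golay Cfsg.Agent.Lib.J4Order
open Cfsg.Agent.Lib.J4Ten (cj cj_apply)
open DataFrame

attribute [local irreducible] mulP inM24 oneCode DataFrame.cA DataFrame.cB

/-! ### the arithmetic is additive in the translations -/

theorem amul_add (g h : List ℕ) (a a' b b' : ℕ) :
    amul (a ^^^ a', g) (b ^^^ b', h) =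
      ((amul (a, g) (b, h)).1 ^^^ (amul (a', g) (b', h)).1, (amul (a, g) (b, h)).2) := by
  simp only [amul, combine_xor]
  refine Prod.ext ?_ rfl
  simp only [Nat.xor_assoc]
  congr 1
  simp only [← Nat.xor_assoc]
  congr 1
  rw [Nat.xor_comm]

theorem aword_add (g h : List ℕ) (α β α' β' : ℕ) : ∀ w : List ℕ,
    (aword (α, g) (β, h) w).2 = (aword (α', g) (β', h) w).2 ∧
      aword (α ^^^ α', g) (β ^^^ β', h) w =
        ((aword (α, g) (β, h) w).1 ^^^ (aword (α', g) (β', h) w).1, (aword (α, g) (β, h) w).2)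
  | [] => ⟨rfl, by simp [aword, aone]⟩
  | l :: w => by
    obtain ⟨h2, he⟩ := aword_add g h α β α' β' w
    have hq : ∀ a : ℕ, aword (α', g) (β', h) w =
        ((aword (α', g) (β', h) w).1, (aword (α, g) (β, h) w).2) := fun _ => Prod.ext rfl h2.symm
    cases hl : Nat.beq l 0
    all_goals
      simp only [aword, hl, cond_true, cond_false]
      rw [he, amul_add, hq 0]
      exact ⟨rfl, rfl⟩

theorem apow_add (g : List ℕ) (a a' : ℕ) : ∀ n : ℕ,
    (apow (a, g) n).2 = (apow (a', g) n).2 ∧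
      apow (a ^^^ a', g) n = ((apow (a, g) n).1 ^^^ (apow (a', g) n).1, (apow (a, g) n).2)
  | 0 => ⟨rfl, by simp [apow, aone]⟩
  | n + 1 => by
    obtain ⟨h2, he⟩ := apow_add g a a' n
    have hq : apow (a', g) n = ((apow (a', g) n).1, (apow (a, g) n).2) := Prod.ext rfl h2.symm
    simp only [apow]
    rw [he, amul_add, hq]
    exact ⟨rfl, rfl⟩

namespace FrameChecks

theorem relVal_add (r : List ℕ × ℕ) (α β α' β' : ℕ) :
    relVal r (α ^^^ α') (β ^^^ β') = relVal r α β ^^^ relVal r α' β' := by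
  obtain ⟨h2, he⟩ := aword_add gA gB α β α' β' r.1
  rw [relVal, relVal, relVal, he, (apow_add _ _ _ r.2).2]
  show (apow (_, _) r.2).1 ^^^ _ = _
  congr 2
  rw [h2]

/-- The columns of a relation in the second value. -/
def colsOf (r : List ℕ × ℕ) : List ℕ := (List.range 10).map fun b => relVal r 0 (2 ^ b)

theorem relVal_split (r : List ℕ × ℕ) (α : ℕ) {β : ℕ} (hβ : β < 1024) :
    relVal r α β = relVal r α 0 ^^^ combine (colsOf r) β := by
  have h0 : relVal r α β = relVal r α 0 ^^^ relVal r 0 β := by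
    rw [← relVal_add, Nat.xor_zero, Nat.zero_xor]
  rw [h0]
  congr 1
  have hf : ∀ u < 2 ^ 10, ∀ v < 2 ^ 10, relVal r 0 (u ^^^ v) = relVal r 0 u ^^^ relVal r 0 v :=
    fun u _ v _ => by rw [← relVal_add, Nat.xor_zero]
  have h := (J4Ten.combine_of_add (n := 10) (fun x => relVal r 0 x) hf
    ((List.range 10).map fun b => 2 ^ b) (fun x hx => by
      obtain ⟨b, hb, rfl⟩ := List.mem_map.mp hx
      exact Nat.pow_lt_pow_right (by norm_num) (List.mem_range.mp hb)) β).2
  rw [List.map_map, J4Ten.combine_basis10 β hβ] at h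
  exact h

theorem options {α β : ℕ} (hα : α = 0 ∨ α = cA0) (hβ : β < 1024)
    (h : ∀ r ∈ rels', relVal r α β = 0) :
    α = 0 ∧ (β = 0 ∨ β = 216 ∨ ∃ e ∈ bad, e.1 = β) := by
  have hc := cols_ok
  simp only [colsOk, Bool.and_eq_true, List.all_eq_true] at hc
  obtain ⟨⟨hc64, hc0⟩, hcz⟩ := hc
  have hconst : relConst α = rels'.map fun r => relVal r α 0 := by
    rcases hα with rfl | rfl
    · exact (leq_eq hc0).symm
    · exact (leq_eq hc64).symm
  have hs : scanOk α = true := by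
    rcases hα with rfl | rfl
    · exact scan_zero
    · exact scan_cA0
  simp only [scanOk, List.all_eq_true, List.mem_range] at hs
  have hall : ((relCols.zip (relConst α)).all fun q => Nat.beq (combine q.1 β) q.2) = true := by
    rw [hconst, List.all_eq_true]
    intro q hq
    rw [List.zip_map_right, ← List.zip_swap, List.map_map] at hq
    obtain ⟨⟨r, c⟩, hrc, rfl⟩ := List.mem_map.mp hq
    have hcol : colsOf r = c := leq_eq (hcz _ hrc)
    have h0 := h r (List.of_mem_zip hrc).1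
    rw [relVal_split _ _ hβ, hcol] at h0
    show Nat.beq (combine c β) (relVal r α 0) = true
    rw [Nat.beq_eq]
    exact (Nat.xor_eq_zero_iff.mp h0).symm
  have h' := hs β hβ
  rw [hall, Bool.not_true, Bool.false_or] at h'
  simp only [Bool.and_eq_true, Bool.or_eq_true, Nat.beq_eq, List.any_eq_true, or_assoc] at h'
  exact h'

end FrameChecks

variable {G : Type*} [Group G] [Finite G] {z : G}

/-- The value of a word in two elements. -/
def gword (a b : G) : List ℕ → G
  | [] => 1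
  | l :: w => (bif Nat.beq l 0 then a else b) * gword a b w

/-- A power of a code. -/
def cpow (c n : ℕ) : ℕ := (List.range n).foldl (fun acc _ => mulP 24 5 acc c) oneCode

theorem cpow_succ (c n : ℕ) : cpow c (n + 1) = mulP 24 5 (cpow c n) c := by
  simp [cpow, List.range_succ, List.foldl_append]

theorem foldl_range_zero {α : Type*} (f : α → ℕ → α) (a : α) : (List.range 0).foldl f a = a := rfl

theorem cpow_zero (c : ℕ) : cpow c 0 = oneCode := foldl_range_zero _ oneCode

namespace Ctx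

variable (C : Ctx z)

theorem cj_chi {a b : ℕ} (ha : a < 1024) (hb : b < 1024) : cj (C.T.chi a) (C.T.chi b) = C.T.chi b := by
  rw [cj_apply, C.T.stdA_comm (C.T.chi_mem ha) (C.T.chi_mem hb), mul_inv_cancel_right]

theorem img_twP {c : ℕ} {g : List ℕ} (hc : Good c) (hg : GGood g)
    (h : FrameChecks.basisOk c g = true) : C.Img (C.nv (twP c)) g := by
  have hlen : (wMat g).length = 10 := (J4Ten.wCols_facts (add5_combine hg)).1
  refine C.T.cj_chi_of_basis hlen (fun x hx => ?_) fun b hb => ?_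
  · simpa using (J4Ten.wCols_facts (add5_combine hg)).2.1 x hx
  simp only [FrameChecks.basisOk, List.all_eq_true, List.mem_range, Bool.and_eq_true, Nat.blt,
    Nat.ble_eq] at h
  obtain ⟨hq, he⟩ := h b hb
  have hp : 2 ^ b < 1024 := lt_of_lt_of_eq (Nat.pow_lt_pow_right (by norm_num) hb) (by norm_num)
  rw [cj_apply, ← C.nv_chiP hp, ← C.nv_chiP hq]
  exact C.nv_conj (Ctx.ngood_twP hc) (ngood_chiP hp) (ngood_chiP hq) he

theorem mem_normalizer_of_img {n : G} {g : List ℕ} (hg : GGood g) (hn : C.Img n g) :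
    n ∈ Subgroup.normalizer (C.T.stdA : Set G) := by
  refine Subgroup.mem_normalizer_fintype fun x hx => ?_
  obtain ⟨a, ha, rfl⟩ := C.T.mem_stdA.mp hx
  rw [← cj_apply, hn a ha]
  exact C.T.chi_mem (wMat_lt hg _)

theorem img_chi_mul {n : G} {g : List ℕ} (hg : GGood g) (hn : C.Img n g) {α : ℕ} (hα : α < 1024) :
    C.Img (C.T.chi α * n) g := fun a ha => by
  rw [J4Ten.cj_mul, hn a ha, C.cj_chi hα (wMat_lt hg _)]

/-- The element has translation part `p.1` over the twisted lift of `c`, which acts by `p.2`. -/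
def Val (x : G) (p : ℕ × List ℕ) (c : ℕ) : Prop :=
  p.1 < 1024 ∧ GGood p.2 ∧ Good c ∧ C.Img (C.nv (twP c)) p.2 ∧ x = C.T.chi p.1 * C.nv (twP c)

theorem nv_twP_one : C.nv (twP oneCode) = 1 := by rw [C.nv_twP good_one, el_one, map_one]

theorem val_one : C.Val 1 aone oneCode :=
  ⟨by decide, ggood_idCols, good_one, by rw [C.nv_twP_one]; exact C.img_one,
    by rw [C.nv_twP_one]; simp [aone, C.T.chi_zero]⟩

theorem val_mul {x y : G} {p q : ℕ × List ℕ} {c d : ℕ} (hx : C.Val x p c) (hy : C.Val y q d) :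
    C.Val (x * y) (amul p q) (mulP 24 5 c d) := by
  obtain ⟨ha, hg, hc, hi, rfl⟩ := hx
  obtain ⟨hb, hh, hd, hj, rfl⟩ := hy
  have e : C.nv (twP (mulP 24 5 c d)) = C.nv (twP c) * C.nv (twP d) := by
    rw [C.nv_twP (good_mulP hc hd), el_mul hc hd, map_mul, ← C.nv_twP hc, ← C.nv_twP hd]
  refine ⟨Nat.xor_lt_two_pow (n := 10) ha (wMat_lt hg _), ggood_mul hg hh, good_mulP hc hd,
    e ▸ C.img_mul hg hh hi hj, ?_⟩
  show _ = C.T.chi (p.1 ^^^ combine (wMat p.2) q.1) * _
  rw [C.T.chi_mul ha (wMat_lt hg _), ← hi _ hb, cj_apply, e]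
  group

theorem val_pow {x : G} {p : ℕ × List ℕ} {c : ℕ} (hx : C.Val x p c) :
    ∀ n, C.Val (x ^ n) (apow p n) (cpow c n)
  | 0 => by rw [pow_zero, cpow_zero, apow]; exact C.val_one
  | n + 1 => by rw [pow_succ, cpow_succ, apow]; exact C.val_mul (val_pow hx n) hx

theorem val_word {a b : G} {p q : ℕ × List ℕ} {A B : ℕ} (ha : C.Val a p A) (hb : C.Val b q B) :
    ∀ w, C.Val (gword a b w) (aword p q w) (cword A B w)
  | [] => C.val_one
  | l :: w => by
    have ih := val_word ha hb w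
    rw [gword, aword, cword]
    cases Nat.beq l 0
    · exact C.val_mul hb ih
    · exact C.val_mul ha ih

/-- A complement of the standard `2^10` acting as all of the preserving maps. -/
structure Cpl (H : Subgroup G) : Prop where
  le : H ≤ Subgroup.normalizer (C.T.stdA : Set G)
  disj : ∀ x ∈ H, x ∈ C.T.stdA → x = 1
  inj : ∀ n ∈ H, (∀ a < 1024, cj n (C.T.chi a) = C.T.chi a) → n = 1
  lift : ∀ n ∈ Subgroup.normalizer (C.T.stdA : Set G), ∃ α < 1024, C.T.chi α * n ∈ H
  surj : ∀ g gi : List ℕ, gOk g = true → gOk gi = true →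
    leq (gi.map fun u => combine g u) idCols = true →
    leq (g.map fun u => combine gi u) idCols = true → ∃ n ∈ H, C.Img n g

theorem exists_cpl (hO : C.T.Outer) : ∃ H, C.Cpl H := by
  obtain ⟨B, hle, hd, hsup, ⟨e⟩⟩ := C.T.exists_split hO
  have hdisj : ∀ x ∈ B, x ∈ C.T.stdA → x = 1 := fun x hx hA =>
    Subgroup.mem_bot.mp (hd ▸ Subgroup.mem_inf.mpr ⟨hx, hA⟩)
  have hinj : ∀ n ∈ B, (∀ a < 1024, cj n (C.T.chi a) = C.T.chi a) → n = 1 := by
    intro n hn h
    refine hdisj n hn ?_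
    rw [← C.T.centralizer_stdA, Subgroup.mem_centralizer_iff]
    intro x hx
    obtain ⟨a, ha, rfl⟩ := C.T.mem_stdA.mp hx
    exact (mul_inv_eq_iff_eq_mul.mp (h a ha)).symm
  refine ⟨B, hle, hdisj, hinj, fun n hn => ?_, fun g gi hg hgi h1 h2 => ?_⟩
  · have hn' : n ∈ ((B ⊔ C.T.stdA : Subgroup G) : Set G) := by rw [hsup]; exact hn
    rw [Subgroup.coe_mul_of_left_le_normalizer_right B C.T.stdA hle] at hn'
    obtain ⟨b, hb, x, hx, rfl⟩ := Set.mem_mul.mp hn'
    have hy : b * x * b⁻¹ ∈ C.T.stdA := (Subgroup.mem_normalizer_iff.mp (hle hb) x).mp hx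
    obtain ⟨α, hα, he⟩ := C.T.mem_stdA.mp (inv_mem hy)
    refine ⟨α, hα, ?_⟩
    rw [he, show (b * x * b⁻¹)⁻¹ * (b * x) = b by group]
    exact hb
  · -- the action is onto the preserving maps
    set φ := C.T.actHom.comp (Subgroup.inclusion hle) with hφ
    have hφi : Function.Injective φ := by
      rw [injective_iff_map_eq_one]
      intro n hn
      exact Subtype.ext (hdisj n n.2 (C.T.mem_stdA_of_actHom hn))
    have hr : φ.range = J4Ten.formStab := by
      refine Subgroup.eq_of_le_of_card_ge ?_ ?_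
      · rintro _ ⟨n, rfl⟩
        exact C.T.actHom_mem hO _
      · rw [Nat.card_congr (MonoidHom.ofInjective hφi).symm.toEquiv, Nat.card_congr e.toEquiv,
          J4Ten.card_sl52]
        exact J4Ten.card_formStab_le
    have hG := ggood_of hg
    have hI := ggood_of hgi
    have hcomp : ∀ (p q : List ℕ), GGood p → GGood q →
        leq (q.map fun u => combine p u) idCols = true →
        ∀ a < 1024, combine (wMat p) (combine (wMat q) a) = a := fun p q hp hq h a ha => by
      rw [← wMat_mul hp hq ha, leq_eq h, wMat_id ha]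
    let σ : Equiv.Perm (Fin 1024) :=
      { toFun := fun a => ⟨combine (wMat g) a, wMat_lt hG _⟩
        invFun := fun a => ⟨combine (wMat gi) a, wMat_lt hI _⟩
        left_inv := fun a => Fin.ext (hcomp gi g hI hG h2 a a.2)
        right_inv := fun a => Fin.ext (hcomp g gi hG hI h1 a a.2) }
    have hd' : ∀ (p q : List ℕ) (_ : GGood p) (_ : GGood q),
        (∀ a < 1024, combine (wMat q) (combine (wMat p) a) = a) → ∀ a < 1024,
        J4Ten.decM.testBit a = true → J4Ten.decM.testBit (combine (wMat p) a) = true := by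
      intro p q hp hq hqp a ha had
      obtain ⟨ha0, u, hu, v, hv, huv⟩ := (J4Ten.decM_iff ha).mp had
      refine (J4Ten.decM_iff (wMat_lt hp _)).mpr ⟨fun h => ha0 ?_, _, (add5_combine hp).1 u hu,
        _, (add5_combine hp).1 v hv, ?_⟩
      · rw [← hqp a ha, h]
        exact combine_zero _
      · show _ = combine (wMat p) a
        rw [← huv]
        exact (J4Ten.wCols_wedge (add5_combine hp) hu hv).symm
    have hσ : σ ∈ J4Ten.formStab := by
      refine J4Ten.mem_formStab.mpr ⟨fun a b => Fin.ext (combine_xor _ _ _), fun a =>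
        Bool.eq_iff_iff.mpr ⟨fun h => ?_, hd' g gi hG hI (hcomp gi g hI hG h2) a a.2⟩⟩
      have := hd' gi g hI hG (hcomp g gi hG hI h1) _ (wMat_lt hG _) h
      rwa [hcomp gi g hI hG h2 a a.2] at this
    rw [← hr] at hσ
    obtain ⟨n, hn⟩ := hσ
    refine ⟨n, n.2, fun a ha => ?_⟩
    have h3 := C.T.img_spec (Subgroup.inclusion hle n) ⟨a, ha⟩
    rw [← J4Ten.Model.actHom_apply] at h3
    rw [show C.T.actHom (Subgroup.inclusion hle n) = σ from hn] at h3
    exact h3

theorem Cpl.conj {C : Ctx z} {H : Subgroup G} (hH : C.Cpl H) {v : ℕ} (hv : v < 1024) :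
    C.Cpl (H.map (cj (C.T.chi v))) := by
  have hvN : C.T.chi v ∈ Subgroup.normalizer (C.T.stdA : Set G) :=
    Subgroup.le_normalizer (C.T.chi_mem hv)
  have hfix : ∀ x ∈ C.T.stdA, cj (C.T.chi v) x = x := fun x hx => by
    rw [cj_apply, C.T.stdA_comm (C.T.chi_mem hv) hx, mul_inv_cancel_right]
  have hact : ∀ n ∈ H, ∀ a < 1024,
      cj (cj (C.T.chi v) n) (C.T.chi a) = cj n (C.T.chi a) := by
    intro n hn a ha
    have h1 : cj (cj (C.T.chi v) n) (C.T.chi a) =
        cj (C.T.chi v) (cj n (cj (C.T.chi v)⁻¹ (C.T.chi a))) := by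
      simp only [cj_apply]; group
    have h2 : cj (C.T.chi v)⁻¹ (C.T.chi a) = C.T.chi a := by
      conv_lhs => rw [← hfix _ (C.T.chi_mem ha)]
      rw [J4Ten.cj_inv_cancel]
    rw [h1, h2, hfix]
    exact (Subgroup.mem_normalizer_iff.mp (hH.le hn) _).mp (C.T.chi_mem ha)
  refine ⟨?_, ?_, ?_, ?_, ?_⟩
  · rintro _ ⟨n, hn, rfl⟩
    exact mul_mem (mul_mem hvN (hH.le hn)) (inv_mem hvN)
  · rintro _ ⟨n, hn, rfl⟩ hA
    have : n ∈ C.T.stdA := by
      have h := mul_mem (mul_mem (inv_mem (C.T.chi_mem hv)) hA) (C.T.chi_mem hv)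
      simpa [cj_apply, mul_assoc] using h
    rw [hH.disj n hn this, map_one]
  · rintro _ ⟨n, hn, rfl⟩ h
    rw [hH.inj n hn fun a ha => by rw [← hact n hn a ha]; exact h a ha, map_one]
  · intro n hn
    have hn' : cj (C.T.chi v)⁻¹ n ∈ Subgroup.normalizer (C.T.stdA : Set G) :=
      mul_mem (mul_mem (inv_mem hvN) hn) (inv_mem (inv_mem hvN))
    obtain ⟨α, hα, hmem⟩ := hH.lift _ hn'
    refine ⟨α, hα, _, hmem, ?_⟩
    rw [map_mul, hfix _ (C.T.chi_mem hα), J4Ten.cj_cancel_inv]
  · intro g gi hg hgi h1 h2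
    obtain ⟨n, hn, hi⟩ := hH.surj g gi hg hgi h1 h2
    exact ⟨_, ⟨n, hn, rfl⟩, fun a ha => by rw [hact n hn a ha]; exact hi a ha⟩

theorem cj_chi_mul {n : G} {g : List ℕ} (hg : GGood g) (hn : C.Img n g) {α v : ℕ} (hα : α < 1024)
    (hv : v < 1024) :
    cj (C.T.chi v) (C.T.chi α * n) = C.T.chi (α ^^^ v ^^^ combine (wMat g) v) * n := by
  have hvi : (C.T.chi v)⁻¹ = C.T.chi v := inv_eq_of_mul_eq_one_right (C.T.chi_sq hv)
  have hnv : n * C.T.chi v = C.T.chi (combine (wMat g) v) * n := mul_inv_eq_iff_eq_mul.mp (hn v hv)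
  rw [cj_apply, hvi, mul_assoc, mul_assoc, hnv, ← mul_assoc, ← mul_assoc, ← C.T.chi_mul hv hα,
    ← C.T.chi_mul (Nat.xor_lt_two_pow (n := 10) hv hα) (wMat_lt hg _), Nat.xor_comm v α]

end Ctx

open FrameChecks

theorem exists_frame (C : Ctx z) (hO : C.T.Outer) (hF : J4Order.Fus C.M false) :
    Nonempty (Frame C DataFrame.cA DataFrame.cB DataFrame.gA DataFrame.gB) := by
  have hA := good_of_inM24 inM_A
  have hB := good_of_inM24 inM_B
  have gGA := ggood_of FrameChecks.ggA
  have gGB := ggood_of FrameChecks.ggB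
  have iA := C.img_twP hA gGA basis_A
  have iB := C.img_twP hB gGB basis_B
  set nA := C.nv (twP cA) with hnA
  set nB := C.nv (twP cB) with hnB
  obtain ⟨H₀, hH₀⟩ := C.exists_cpl hO
  obtain ⟨α₀, hα₀, hmA⟩ := hH₀.lift _ (C.mem_normalizer_of_img gGA iA)
  obtain ⟨β₀, hβ₀, hmB⟩ := hH₀.lift _ (C.mem_normalizer_of_img gGB iB)
  have hn := norm_ok
  simp only [normOk, List.all_eq_true, List.mem_range, Bool.and_eq_true, Bool.or_eq_true, Nat.blt,
    Nat.ble_eq, Nat.beq_eq] at hn
  obtain ⟨hv, hcases⟩ := hn α₀ hα₀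
  set v := combine normMat α₀
  set α := α₀ ^^^ v ^^^ combine (wMat gA) v
  set β := β₀ ^^^ v ^^^ combine (wMat gB) v
  have hα : α < 1024 :=
    Nat.xor_lt_two_pow (n := 10) (Nat.xor_lt_two_pow (n := 10) hα₀ hv) (wMat_lt gGA _)
  have hβ : β < 1024 :=
    Nat.xor_lt_two_pow (n := 10) (Nat.xor_lt_two_pow (n := 10) hβ₀ hv) (wMat_lt gGB _)
  set H := H₀.map (cj (C.T.chi v)) with hHdef
  have hH : C.Cpl H := hH₀.conj hv
  have ha : C.T.chi α * nA ∈ H := ⟨_, hmA, C.cj_chi_mul gGA iA hα₀ hv⟩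
  have hb : C.T.chi β * nB ∈ H := ⟨_, hmB, C.cj_chi_mul gGB iB hβ₀ hv⟩
  have va : C.Val (C.T.chi α * nA) (α, gA) cA := ⟨hα, gGA, hA, iA, rfl⟩
  have vb : C.Val (C.T.chi β * nB) (β, gB) cB := ⟨hβ, gGB, hB, iB, rfl⟩
  have hword : ∀ w, gword (C.T.chi α * nA) (C.T.chi β * nB) w ∈ H := by
    intro w
    induction w with
    | nil => exact one_mem _
    | cons l w ih =>
      rw [gword]
      cases Nat.beq l 0
      · exact mul_mem hb ih
      · exact mul_mem ha ih
  have hrel : ∀ r ∈ rels', relVal r α β = 0 := by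
    intro r hr
    obtain ⟨hp, -, hc, -, he⟩ := C.val_pow (C.val_word va vb r.1) r.2
    have hord := List.all_eq_true.mp ord_ok r hr
    have h1 : C.nv (twP (cpow (cword cA cB r.1) r.2)) = 1 := by
      rw [C.nv_twP hc, el_congr hc good_one hord, el_one, map_one]
    rw [h1, mul_one] at he
    show (apow (aword (α, gA) (β, gB) r.1) r.2).1 = 0
    refine C.T.chi_eq_one hp ?_
    rw [← he]
    exact hH.disj _ (pow_mem (hword r.1) _) (he ▸ C.T.chi_mem hp)
  obtain ⟨hα0, hβc⟩ := options (α := α) hcases hβ hrel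
  have ha' : nA ∈ H := by
    rw [hα0, C.T.chi_zero, one_mul] at ha
    exact ha
  have mk : ∀ K : Subgroup G, C.Cpl K → nA ∈ K → nB ∈ K →
      Nonempty (Frame C cA cB gA gB) := fun K hK h1 h2 =>
    ⟨⟨K, hK.le, hK.disj, hK.inj, h1, h2, gGA, gGB, iA, iB, hK.surj⟩⟩
  rcases hβc with h | h | ⟨e, he, heb⟩
  · refine mk H hH ha' ?_
    rw [h, C.T.chi_zero, one_mul] at hb
    exact hb
  · have hi := inner_ok
    simp only [Bool.and_eq_true, Nat.beq_eq] at hi
    refine mk _ (hH.conj (show 288 < 1024 by norm_num)) ⟨_, ha', ?_⟩ ⟨_, hb, ?_⟩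
    · have := C.cj_chi_mul gGA iA (show 0 < 1024 by norm_num) (show 288 < 1024 by norm_num)
      rw [hi.1, Nat.zero_xor, Nat.xor_self, C.T.chi_zero, one_mul] at this
      exact this
    · rw [C.cj_chi_mul gGB iB hβ (show 288 < 1024 by norm_num), h, hi.2, C.T.chi_zero, one_mul]
  · exfalso
    obtain ⟨β', ⟨w1, n1, r1⟩, ⟨w2, n2, r2⟩, gh, ghi⟩ := e
    change β' = β at heb
    subst heb
    have hbad := List.all_eq_true.mp bad_ok _ he
    simp only [badOk, Bool.and_eq_true] at hbad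
    obtain ⟨⟨⟨⟨⟨⟨⟨⟨hh1, hh2⟩, hr1⟩, hr2⟩, hgh⟩, hghi⟩, hl1⟩, hl2⟩, heq⟩ := hbad
    have hgA0 : (aword (α, gA) (β, gB)) = aword (0, gA) (β, gB) := by rw [hα0]
    -- each half gives a conjugate of a standard involution
    have half : ∀ w (n r : ℕ × ℕ) (s : ℕ) (o : ℕ), halfOk β w n r = true → Good s → o < 2048 →
        neq' r (o, s) = true → ∃ x ∈ H, C.Img x (aword (0, gA) (β, gB) w).2 ∧
          (IsConj z x ↔ IsConj z (C.M.ev o (el s))) := by
      intro w n r s o hh hs ho hneq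
      simp only [halfOk, Bool.and_eq_true, Nat.blt, Nat.ble_eq] at hh
      obtain ⟨⟨⟨hp, hn'⟩, hr'⟩, hconj⟩ := hh
      obtain ⟨-, hg, hc, hi, hx⟩ := C.val_word va vb w
      rw [hgA0] at hx hg hi
      refine ⟨_, hword w, ?_, ?_⟩
      · rw [hx]
        exact C.img_chi_mul hg hi hp
      · have hxn : gword (C.T.chi α * nA) (C.T.chi β * nB) w =
            C.nv (nmul (chiP (aword (0, gA) (β, gB) w).1) (twP (cword cA cB w))) := by
          rw [hx, ← C.nv_mul (ngood_chiP hp) (Ctx.ngood_twP hc), C.nv_chiP hp]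
        have hgx := ngood_nmul (ngood_chiP hp) (Ctx.ngood_twP hc)
        have hcv := C.nv_conj (ngood_of hn') hgx (ngood_of hr') hconj
        rw [← hxn, C.nv_congr (ngood_of hr') (show NGood (o, s) from ⟨ho, hs⟩) hneq] at hcv
        show _ ↔ IsConj z (C.nv (o, s))
        rw [← hcv]
        exact J4Order.isConj_conj.symm
    obtain ⟨x1, hx1, hi1, hc1⟩ := half w1 n1 r1 _ 0 hh1 (good_of_inM24 inM_stdA) (by norm_num) hr1
    obtain ⟨x2, hx2, hi2, hc2⟩ := half w2 n2 r2 _ 0 hh2 (good_of_inM24 inM_stdB) (by norm_num) hr2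
    have hz1 : IsConj z x1 := hc1.mpr hF.zA
    have hz2 : ¬ IsConj z x2 := fun h => Bool.false_ne_true (hF.pB.mp (hc2.mp h))
    obtain ⟨h, hhH, hhi⟩ := hH.surj gh ghi hgh hghi hl1 hl2
    have G1 : GGood (aword (0, gA) (β, gB) w1).2 := by
      have := (C.val_word va vb w1).2.1
      rwa [hgA0] at this
    have G2 : GGood (aword (0, gA) (β, gB) w2).2 := by
      have := (C.val_word va vb w2).2.1
      rwa [hgA0] at this
    have e1 := C.img_mul (ggood_of hgh) G1 hhi hi1
    have e2 := C.img_mul G2 (ggood_of hgh) hi2 hhi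
    rw [leq_eq heq] at e1
    have hone := hH.inj ((x2 * h)⁻¹ * (h * x1))
      (mul_mem (inv_mem (mul_mem hx2 hhH)) (mul_mem hhH hx1)) fun a ha => by
        rw [J4Ten.cj_mul, e1 a ha, ← e2 a ha, J4Ten.cj_inv_cancel]
    rw [inv_mul_eq_one] at hone
    refine hz2 (hz1.trans (isConj_iff.mpr ⟨h, ?_⟩))
    rw [← hone, mul_inv_cancel_right]

end Cfsg.Agent.Lib.J4Uniq13
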