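import Cfsg.Agent.Lib.J4Uniq13.RelChecks

/-!
# The second long relation

In the frame of the octad shared by two conjugates of the symmetric generator the product
`ε = (a d a) y₀⁻¹` centralises enough of the normaliser of the `2^11` to be one of two values, and an
element exchanging the two trios leaves the trivial one.
-/

set_option autoImplicit false
set_option linter.unusedSectionVars false
set_option maxRecDepth 20000

namespace Cfsg.Agent.Lib.J4Uniq13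

open Cfsg Cfsg.Agent.Lib.Computation Cfsg.Agent.Lib.Golay Cfsg.Agent.Lib.J4Order
open DataRel

attribute [local irreducible] mulP inM24 oneCode

variable {G : Type*} [Group G] [Finite G] {z : G}

/-- The codes of the data are good. -/
theorem relGoods : Good g1 ∧ Good g1i ∧ Good cS1 ∧ Good cS12 ∧ Good cA1 ∧ Good cA1i ∧ Good cD0 ∧
    Good cU2i ∧ Good g2 ∧ Good g2i ∧ Good cED ∧ Good ck ∧ Good cEA ∧ Good rD.1 ∧ Good rD2.1 ∧
    Good rF.1 ∧ Good rA2.1 ∧ Good rF2.1 ∧ Good cS ∧ Good cU2 ∧ Good DataTrio.g0i := by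
  have h := relGood
  simp only [Bool.and_eq_true] at h
  obtain ⟨⟨⟨⟨⟨⟨⟨⟨⟨⟨⟨⟨⟨⟨⟨⟨⟨⟨⟨⟨a1, a2⟩, a3⟩, a4⟩, a5⟩, a6⟩, a7⟩, a8⟩, a9⟩, b0⟩, b1⟩, b2⟩, b3⟩, b4⟩,
    b5⟩, b6⟩, b7⟩, b8⟩, b9⟩, c0⟩, c1⟩ := h
  exact ⟨good_of_inM24 a1, good_of_inM24 a2, good_of_inM24 a3, good_of_inM24 a4, good_of_inM24 a5,
    good_of_inM24 a6, good_of_inM24 a7, good_of_inM24 a8, good_of_inM24 a9, good_of_inM24 b0,
    good_of_inM24 b1, good_of_inM24 b2, good_of_inM24 b3, good_of_inM24 b4, good_of_inM24 b5,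
    good_of_inM24 b6, good_of_inM24 b7, good_of_inM24 b8, good_of_inM24 b9, good_of_inM24 c0,
    good_of_inM24 c1⟩

/-- The permutations of the data satisfy their relations. -/
theorem relKap (C : Ctx z) : C.M.κ (el g1i) = (C.M.κ (el g1))⁻¹ ∧
    C.M.κ (el cS1) * C.M.κ (el g1) = C.M.κ (el g1) * C.M.κ (el cS) ∧
    C.M.κ (el cA1) = C.M.κ (el g1) * C.M.κ (el DataTrio.g0i) ∧
    C.M.κ (el cA1i) = (C.M.κ (el cA1))⁻¹ ∧ C.M.κ (el cU2i) = (C.M.κ (el cU2))⁻¹ ∧
    C.M.κ (el cD0) = C.M.κ (el g1) * C.M.κ (el cU2i) * C.M.κ (el DataTrio.g0i) ∧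
    C.M.κ (el cS12) = C.M.κ (el cS1) * C.M.κ (el cS1) ∧
    C.M.κ (el g2i) = (C.M.κ (el g2))⁻¹ ∧
    C.M.κ (el ck) * C.M.κ (el cS12) = C.M.κ (el cS12) * C.M.κ (el ck) ∧
    C.M.κ (el ck) * C.M.κ (el cED) = C.M.κ (el cEA) * C.M.κ (el ck) ∧
    C.M.κ (el cED) ≠ C.M.κ (el cEA) := by
  obtain ⟨g1', g1i', s1, s12, a1, a1i, d0, u2i, g2', g2i', ed, k, ea, -, -, -, -, -, s, u2, g0i'⟩ := relGoods
  have h := relPerm_ok
  simp only [Bool.and_eq_true, Bool.not_eq_true'] at h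
  obtain ⟨⟨⟨⟨⟨⟨⟨⟨⟨⟨e1, e2⟩, e3⟩, e4⟩, e5⟩, e6⟩, e7⟩, e8⟩, e9⟩, e10⟩, e11⟩ := h
  refine ⟨C.kap_inv g1' g1i' e1, ?_, ?_, C.kap_inv a1 a1i e4, C.kap_inv u2 u2i e5, ?_, ?_,
    C.kap_inv g2' g2i' e8, ?_, ?_, C.kap_ne ed ea e11⟩
  · rw [← C.kap_mul s1 g1', ← C.kap_mul g1' s, C.kap_eq (good_mulP s1 g1') (good_mulP g1' s) e2]
  · rw [← C.kap_mul g1' g0i', C.kap_eq (good_mulP g1' g0i') a1 e3]
  · rw [← C.kap_mul g1' u2i, ← C.kap_mul (good_mulP g1' u2i) g0i',
      C.kap_eq (good_mulP (good_mulP g1' u2i) g0i') d0 e6]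
  · rw [← C.kap_mul s1 s1, C.kap_eq (good_mulP s1 s1) s12 e7]
  · rw [← C.kap_mul k s12, ← C.kap_mul s12 k, C.kap_eq (good_mulP k s12) (good_mulP s12 k) e9]
  · rw [← C.kap_mul k ed, ← C.kap_mul ea k, C.kap_eq (good_mulP k ed) (good_mulP ea k) e10]

namespace Frame

variable {C : Ctx z} (F : Fr C)

/-- Left division in coordinates. -/
theorem rep_of_mul {x y xi : G} {p pi q r : ℕ × List ℕ} (hx : F.Rep x p) (hxi : F.Rep xi pi)
    (hxy : F.Rep (x * y) r) (h : aeq (amul p q) r = true) (hi : aeq (amul pi p) aone = true)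
    (hq : aeq (amul pi (amul p q)) q = true) : F.Rep y q := by
  have e1 : xi * x = 1 := F.eq_of_reps (F.rep_mul hxi hx) F.rep_one hi
  have := F.rep_mul hxi hxy
  rw [← mul_assoc, e1, one_mul, ← aeq_eq h, aeq_eq hq] at this
  exact this

variable {τ : G} (hτ : F.Rep τ tauRep)
include hτ

theorem tOf_sq (τsq : τ * τ = 1) (c : ℕ) : C.tOf τ c * C.tOf τ c = 1 := by
  rw [Ctx.tOf, show C.M.κ (el c) * τ * (C.M.κ (el c))⁻¹ * (C.M.κ (el c) * τ * (C.M.κ (el c))⁻¹)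
    = C.M.κ (el c) * (τ * τ) * (C.M.κ (el c))⁻¹ by group, τsq]
  group

/-- The pairs: an element and its conjugate by the first conjugate of the generator. -/
theorem gen_pairs (τsq : τ * τ = 1) (hr : Commute τ (C.M.κ (el DataTrio.cr))) :
    ∀ p ∈ gensRep, ∃ x : G, F.Rep x p.1 ∧ F.Rep (C.tOf τ cA1 * x * C.tOf τ cA1) p.2 := by
  obtain ⟨-, -, -, -, a1', -, -, -, g2', -, -, -, -, -, -, rf', ra2', rf2', -, -, -⟩ := relGoods
  have hm := relModel_ok
  have hq := relTrio_ok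
  simp only [Bool.and_eq_true] at hm hq
  obtain ⟨⟨⟨⟨⟨⟨⟨⟨⟨⟨⟨-, -⟩, mF⟩, mA2⟩, mF2⟩, -⟩, -⟩, -⟩, -⟩, -⟩, mAF⟩, -⟩ := hm
  obtain ⟨⟨⟨⟨⟨⟨⟨⟨-, -⟩, -⟩, -⟩, qA⟩, qF⟩, -⟩, -⟩, -⟩ := hq
  set k2 := C.M.κ (el g2)
  set a := C.tOf τ cA1
  set a2 := C.tOf τ rA2.1
  have haa : a * a = 1 := F.tOf_sq hτ τsq _
  have eA : a2 = k2 * a * k2⁻¹ := by
    rw [← C.tOf_mul τ g2' a1']; exact (F.tOf_eq hτ hr qA).symm
  have eF : C.tOf τ rF2.1 = k2 * C.tOf τ rF.1 * k2⁻¹ := by
    rw [← C.tOf_mul τ g2' rf']; exact (F.tOf_eq hτ hr qF).symm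
  intro p hp
  rcases List.mem_cons.mp hp with rfl | hp
  · refine ⟨C.tOf τ rF.1, F.rep_tOf hτ mF, ?_⟩
    have hc : Commute a2 (C.tOf τ rF2.1) :=
      F.commute_of_reps (F.rep_tOf hτ mA2) (F.rep_tOf hτ mF2) mAF
    have hc' : Commute a (C.tOf τ rF.1) := by
      rw [eA, eF] at hc
      have := hc.map (MulAut.conj k2⁻¹)
      simpa [mul_assoc] using this
    show F.Rep (a * C.tOf τ rF.1 * a) (rtRep rF)
    rw [hc'.eq, mul_assoc, haa, mul_one]
    exact F.rep_tOf hτ mF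
  · obtain ⟨q, hq', rfl⟩ := List.mem_map.mp hp
    have h := List.all_eq_true.mp relGens_ok q hq'
    simp only [genOk, Bool.and_eq_true] at h
    obtain ⟨⟨⟨⟨⟨⟨c1, c2⟩, c3⟩, c4⟩, n1⟩, n2⟩, he⟩ := h
    have gn : ∀ {q : ℕ × ℕ} {w : Cert}, certOk q w = true → NGood q := fun {q w} hw => by
      simp only [certOk, Bool.and_eq_true] at hw
      exact ngood_of hw.1.2
    have gk : NGood (0, g2) := ⟨by norm_num, g2'⟩
    refine ⟨C.nv q.1.1, F.rep_cert c1, ?_⟩
    have e1 := C.nv_conj gk (gn c1) (gn c2) n1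
    have e2 := C.nv_conj gk (gn c4) (gn c3) n2
    rw [C.nv_el] at e1 e2
    have e3 : a2 * C.nv q.2.1.1 * a2 = C.nv q.2.2.1.1 :=
      F.eq_of_reps (F.rep_mul (F.rep_mul (F.rep_tOf hτ mA2) (F.rep_cert c2)) (F.rep_tOf hτ mA2))
        (F.rep_cert c3) he
    have : a * C.nv q.1.1 * a = C.nv q.2.2.2.1 := by
      have h4 : k2 * (a * C.nv q.1.1 * a) * k2⁻¹ = k2 * C.nv q.2.2.2.1 * k2⁻¹ := by
        rw [show C.M.κ (el g2) = k2 from rfl] at e1 e2
        rw [e2, ← e3, ← e1, eA]; group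
      exact mul_left_cancel (mul_right_cancel h4)
    rw [this]
    exact F.rep_cert c4

theorem word_pairs (τsq : τ * τ = 1) (hr : Commute τ (C.M.κ (el DataTrio.cr))) : ∀ w : List ℕ,
    ∃ x : G, F.Rep x (pairW w).1 ∧ F.Rep (C.tOf τ cA1 * x * C.tOf τ cA1) (pairW w).2
  | [] => ⟨1, F.rep_one, by rw [mul_one, F.tOf_sq hτ τsq]; exact F.rep_one⟩
  | i :: w => by
    obtain ⟨y, hy, hy'⟩ := word_pairs τsq hr w
    have hg : ∃ x : G, F.Rep x (gensRep.getD i (aone, aone)).1 ∧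
        F.Rep (C.tOf τ cA1 * x * C.tOf τ cA1) (gensRep.getD i (aone, aone)).2 := by
      rcases lt_or_ge i gensRep.length with h | h
      · rw [List.getD_eq_getElem _ _ h]
        exact F.gen_pairs hτ τsq hr _ (List.getElem_mem h)
      · rw [List.getD_eq_default _ _ h]
        exact ⟨1, F.rep_one, by rw [mul_one, F.tOf_sq hτ τsq]; exact F.rep_one⟩
    obtain ⟨x, hx, hx'⟩ := hg
    refine ⟨x * y, F.rep_mul hx hy, ?_⟩
    have := F.rep_mul hx' hy'
    have e : C.tOf τ cA1 * (x * y) * C.tOf τ cA1 =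
        C.tOf τ cA1 * x * C.tOf τ cA1 * (C.tOf τ cA1 * y * C.tOf τ cA1) := by
      calc C.tOf τ cA1 * (x * y) * C.tOf τ cA1
          = C.tOf τ cA1 * x * (C.tOf τ cA1 * C.tOf τ cA1) * y * C.tOf τ cA1 := by
            rw [F.tOf_sq hτ τsq]; group
        _ = _ := by group
    rw [e]
    exact this

/-- The value of the product of the two conjugates: one of two candidates. -/
theorem eps_cases (τsq : τ * τ = 1) (hr : Commute τ (C.M.κ (el DataTrio.cr)))
    (hcent : ∀ x : G, (∀ q ∈ DataCent.T, Commute x (C.M.ev q.1 (el q.2))) →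
      ∃ q ∈ DataCent.L, x = C.M.ev q.1 (el q.2)) :
    C.tOf τ cA1 * C.tOf τ rD.1 * C.tOf τ cA1 = C.tOf τ rD.1 * (C.tOf τ rF.1 * C.M.κ (el cS12)) ∨
    C.tOf τ cA1 * C.tOf τ rD.1 * C.tOf τ cA1 =
      C.M.κ (el cED) * (C.tOf τ rD.1 * (C.tOf τ rF.1 * C.M.κ (el cS12))) := by
  have hm := relModel_ok
  have ho := relOrd_ok
  simp only [Bool.and_eq_true, Nat.blt, Nat.ble_eq] at hm ho
  obtain ⟨⟨⟨⟨⟨⟨⟨⟨⟨⟨⟨mD, -⟩, mF⟩, -⟩, -⟩, mS⟩, mE⟩, -⟩, -⟩, -⟩, -⟩, -⟩ := hm
  obtain ⟨⟨⟨⟨⟨⟨oo, gg⟩, ggi⟩, gl⟩, gli⟩, gi1⟩, gi2⟩ := ho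
  set a := C.tOf τ cA1
  set d := C.tOf τ rD.1
  have haa : a * a = 1 := F.tOf_sq hτ τsq _
  have hdd : d * d = 1 := F.tOf_sq hτ τsq _
  set y0 := d * (C.tOf τ rF.1 * C.M.κ (el cS12))
  set y := a * d * a with hy
  have hyy : y * y = 1 := by
    calc a * d * a * (a * d * a) = a * d * (a * a) * d * a := by group
      _ = a * (d * d) * a := by rw [haa]; group
      _ = 1 := by rw [hdd, mul_one, haa]
  have rd : F.Rep d dRep := F.rep_tOf hτ mD
  have ry0 : F.Rep y0 y0Rep := F.rep_mul rd (F.rep_mul (F.rep_tOf hτ mF) (F.rep_kap mS))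
  set ε := y * y0⁻¹ with hε
  obtain ⟨n, hn, hni⟩ := F.surj gq.2 gqi.2 gg ggi gi1 gi2
  set g := C.T.chi gq.1 * n
  have rg : F.Rep g gq := ⟨gl, ggood_of gg, n, hn, hni, rfl⟩
  have hcm : ∀ q ∈ DataCent.T, Commute (g * ε * g⁻¹) (C.M.ev q.1 (el q.2)) := by
    intro q hq
    have hc := relCents_ok
    simp only [Bool.and_eq_true, Nat.beq_eq] at hc
    obtain ⟨i, hi, rfl⟩ := List.getElem_of_mem hq
    have hi' : i < cents.length := hc.1 ▸ hi
    have hz : (cents[i], DataCent.T[i]) ∈ cents.zip DataCent.T := by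
      have : i < (cents.zip DataCent.T).length := by rw [List.length_zip]; omega
      have h := List.getElem_mem this
      rwa [List.getElem_zip] at h
    have h := List.all_eq_true.mp hc.2 _ hz
    simp only [centOk, Bool.and_eq_true] at h
    obtain ⟨⟨⟨h1, h2⟩, h3⟩, h4⟩ := h
    obtain ⟨x, hx, hx'⟩ := F.word_pairs hτ τsq hr (cents[i]).1
    obtain ⟨u, hu, hu'⟩ := F.word_pairs hτ τsq hr (cents[i]).2.1
    have e1 : d * x * d = u := F.eq_of_reps (F.rep_mul (F.rep_mul rd hx) rd) hu h1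
    have e2 : y0 * (a * u * a) = a * x * a * y0 :=
      F.eq_of_reps (F.rep_mul ry0 hu') (F.rep_mul hx' ry0) h2
    have e3 : g * (a * x * a) = C.nv DataCent.T[i] * g :=
      F.eq_of_reps (F.rep_mul rg hx') (F.rep_mul (F.rep_cert h3) rg) h4
    have e4 : y * (a * u * a) * y = a * x * a := by
      calc y * (a * u * a) * y = a * d * (a * a) * u * (a * a) * d * a := by rw [hy]; group
        _ = a * (d * d) * x * (d * d) * a := by rw [haa, ← e1]; group
        _ = _ := by rw [hdd]; group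
    have e5 : Commute ε (a * x * a) := by
      show y * y0⁻¹ * (a * x * a) = a * x * a * (y * y0⁻¹)
      have e2' : y0⁻¹ * (a * x * a) = a * u * a * y0⁻¹ := by
        rw [inv_mul_eq_iff_eq_mul, ← mul_assoc, e2, mul_inv_cancel_right]
      calc y * y0⁻¹ * (a * x * a) = y * (a * u * a) * (y * y) * y0⁻¹ := by
            rw [hyy, mul_assoc y, e2']; group
        _ = y * (a * u * a) * y * (y * y0⁻¹) := by group
        _ = _ := by rw [e4]
    have e6 : g * (a * x * a) * g⁻¹ = C.nv DataCent.T[i] := by rw [e3, mul_inv_cancel_right]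
    show Commute (g * ε * g⁻¹) (C.nv DataCent.T[i])
    rw [← e6]
    exact e5.map (MulAut.conj g)
  obtain ⟨q, hq, he⟩ := hcent _ hcm
  have hc := relCands_ok
  simp only [Bool.and_eq_true, Nat.beq_eq] at hc
  obtain ⟨i, hi, rfl⟩ := List.getElem_of_mem hq
  have hi' : i < cands.length := hc.1 ▸ hi
  have hz : (cands[i], DataCent.L[i]) ∈ cands.zip DataCent.L := by
    have : i < (cands.zip DataCent.L).length := by rw [List.length_zip]; omega
    have h := List.getElem_mem this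
    rwa [List.getElem_zip] at h
  have h := List.all_eq_true.mp hc.2 _ hz
  simp only [candRelOk, Bool.and_eq_true, Bool.or_eq_true] at h
  obtain ⟨⟨⟨⟨h1, h2⟩, hgg⟩, hpp⟩, h3⟩ := h
  set p := (cands[i]).1
  -- the candidate has the coordinates `p`
  have hgi : F.Rep g gq := rg
  obtain ⟨n', hn', hni'⟩ := F.surj gqi.2 gq.2 ggi gg gi2 gi1
  have rgi : F.Rep (C.T.chi gqi.1 * n') gqi := ⟨gli, ggood_of ggi, n', hn', hni', rfl⟩
  have rε : F.Rep ε p := by
    have e : g * ε = C.nv (DataCent.L[i]'hi) * g := by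
      change g * ε * g⁻¹ = C.nv _ at he
      rw [← he]; group
    have r1 : F.Rep (g * ε) (amul (certRep (cands[i]).2) gq) := by
      rw [e]; exact F.rep_mul (F.rep_cert h1) rg
    exact F.rep_of_mul rg rgi r1 h2 hgg hpp
  have ryε : F.Rep y (amul p y0Rep) := by
    have := F.rep_mul rε ry0
    rwa [hε, inv_mul_cancel_right] at this
  have hε' : y = ε * y0 := by rw [hε, inv_mul_cancel_right]
  rcases h3 with ((h3 | h3) | h3) | h3
  · left
    show y = y0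
    rw [hε', show ε = 1 from F.eq_of_reps rε F.rep_one h3, one_mul]
  · right
    show y = C.M.κ (el cED) * y0
    rw [hε', show ε = C.M.κ (el cED) from F.eq_of_reps rε (F.rep_kap mE) h3]
  · exact absurd (by rw [pow_two]; exact hyy) (F.ne_one (F.rep_pow ryε 2) h3)
  · obtain ⟨x, hx, hx'⟩ := F.word_pairs hτ τsq hr wOrd
    have e1 : (d * x) ^ nOrd = 1 := F.eq_of_reps (F.rep_pow (F.rep_mul rd hx) nOrd) F.rep_one oo
    refine absurd ?_ (F.ne_one (F.rep_pow (F.rep_mul ryε hx') nOrd) h3)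
    have ha : a⁻¹ = a := inv_eq_of_mul_eq_one_right haa
    have e2 : y * (a * x * a) = a * (d * x) * a⁻¹ := by
      rw [ha]
      calc y * (a * x * a) = a * d * (a * a) * x * a := by rw [hy]; group
        _ = _ := by rw [haa]; group
    rw [e2, conj_pow, e1, mul_one, mul_inv_cancel]

/-- The second long relation. -/
theorem rel2 (τsq : τ * τ = 1) (hr : Commute τ (C.M.κ (el DataTrio.cr)))
    (hcent : ∀ x : G, (∀ q ∈ DataCent.T, Commute x (C.M.ev q.1 (el q.2))) →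
      ∃ q ∈ DataCent.L, x = C.M.ev q.1 (el q.2)) :
    (C.M.κ (el cS) * C.tOf τ DataTrio.g0i *
      ((C.M.κ (el cU2))⁻¹ * C.tOf τ DataTrio.g0i * C.M.κ (el cU2))) ^ 2 = 1 := by
  obtain ⟨g1', -, s1, s12, a1', a1i, d0, u2i, -, -, -, k', -, rd', rd2', rf', -, -, s', -, g0i'⟩ := relGoods
  obtain ⟨kg1, kS, kA, kAi, kU, kD, kQ, -, kkQ, kkE, kne⟩ := relKap C
  have hm := relModel_ok
  have hq := relTrio_ok
  simp only [Bool.and_eq_true] at hm hq
  obtain ⟨⟨⟨⟨⟨⟨⟨⟨⟨⟨⟨mD, mD2⟩, mF⟩, -⟩, -⟩, mS⟩, mE⟩, mL⟩, mFQ⟩, mDFQ⟩, -⟩, mDE⟩ := hm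
  obtain ⟨⟨⟨⟨⟨⟨⟨⟨qSA, qD'⟩, qS1⟩, qS2⟩, -⟩, -⟩, qK1⟩, qK2⟩, qK3⟩ := hq
  set a := C.tOf τ cA1 with haDef
  set d := C.tOf τ rD.1
  set d' := C.tOf τ rD2.1
  set f := C.tOf τ rF.1
  set S := C.M.κ (el cS1)
  set Q := C.M.κ (el cS12)
  set k := C.M.κ (el ck)
  have haa : a * a = 1 := F.tOf_sq hτ τsq _
  have hdd : d * d = 1 := F.tOf_sq hτ τsq _
  have rd : F.Rep d dRep := F.rep_tOf hτ mD
  have rfq : F.Rep (f * Q) fqRep := F.rep_mul (F.rep_tOf hτ mF) (F.rep_kap mS)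
  have hSa : S * a = a * S := by
    have h := F.commute_tau hτ hr qSA
    rw [C.kap_mul a1i (good_mulP s1 a1'), C.kap_mul s1 a1', kAi] at h
    have h' := h.map (MulAut.conj (C.M.κ (el cA1)))
    simp only [MulAut.conj_apply] at h'
    rw [show C.M.κ (el cA1) * ((C.M.κ (el cA1))⁻¹ * (S * C.M.κ (el cA1))) * (C.M.κ (el cA1))⁻¹ = S by
      group] at h'
    exact h'.symm.eq
  have hSd : S * d = d' * S := by
    have := F.tOf_eq hτ hr qS1
    rw [C.tOf_mul τ s1 rd'] at this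
    exact mul_inv_eq_iff_eq_mul.mp this
  have hline : d * d' = f :=
    F.eq_of_reps (F.rep_mul rd (F.rep_tOf hτ mD2)) (F.rep_tOf hτ mF) mL
  have hd' : d' = d * f := by rw [← hline, ← mul_assoc, hdd, one_mul]
  have hdfq : d * (f * Q) = f * Q * d := F.eq_of_reps (F.rep_mul rd rfq) (F.rep_mul rfq rd) mDFQ
  have hfq2 : f * Q * (f * Q) = 1 := F.eq_of_reps (F.rep_mul rfq rfq) F.rep_one mFQ
  have hQa : Q * a = a * Q := by
    rw [show Q = S * S from kQ, mul_assoc, hSa, ← mul_assoc, hSa, mul_assoc]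
  have hfa : f * a = a * f := by
    obtain ⟨x, hx, hx'⟩ := F.gen_pairs hτ τsq hr (rtRep rF, rtRep rF) List.mem_cons_self
    have e1 : x = f := F.rep_unique hx (F.rep_tOf hτ mF)
    subst e1
    have e2 : a * f * a = f := F.rep_unique hx' (F.rep_tOf hτ mF)
    calc f * a = a * f * a * a := by rw [e2]
      _ = _ := by rw [mul_assoc, haa, mul_one]
  -- the square of the product of the two conjugates
  have hy : a * d * a = d * (f * Q) := by
    rcases F.eps_cases hτ τsq hr hcent with h | h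
    · exact h
    exfalso
    have hka : k * a = d * k := by
      have := F.tOf_eq hτ hr qK1
      rw [C.tOf_mul τ k' a1'] at this
      exact mul_inv_eq_iff_eq_mul.mp this
    have hkd : k * d = a * k := by
      have := F.tOf_eq hτ hr qK2
      rw [C.tOf_mul τ k' rd'] at this
      exact mul_inv_eq_iff_eq_mul.mp this
    have hkf : k * f = f * k := by
      have := F.tOf_eq hτ hr qK3
      rw [C.tOf_mul τ k' rf'] at this
      exact mul_inv_eq_iff_eq_mul.mp this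
    set eD := C.M.κ (el cED)
    set eA := C.M.κ (el cEA)
    have hde : d * eD = eD * d := F.eq_of_reps (F.rep_mul rd (F.rep_kap mE)) (F.rep_mul (F.rep_kap mE) rd) mDE
    have hae : a * eA = eA * a := by
      have h1 : k * (d * eD) = k * (eD * d) := by rw [hde]
      rw [← mul_assoc, hkd, mul_assoc, kkE, ← mul_assoc, ← mul_assoc k, kkE, mul_assoc eA, hkd,
        ← mul_assoc] at h1
      exact mul_right_cancel h1
    have h2 : d * a * d = eA * (a * (f * Q)) := by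
      have h1 : k * (a * d * a) = k * (eD * (d * (f * Q))) := by rw [h]
      rw [show k * (a * d * a) = d * a * d * k by
          rw [← mul_assoc, ← mul_assoc, hka, mul_assoc d k d, hkd, ← mul_assoc, mul_assoc (d * a) k a, hka,
            ← mul_assoc],
        show k * (eD * (d * (f * Q))) = eA * (a * (f * Q)) * k by
          rw [← mul_assoc k eD, kkE, mul_assoc eA, ← mul_assoc k d, hkd, mul_assoc a, ← mul_assoc k f, hkf,
            mul_assoc f, kkQ]
          group] at h1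
      exact mul_right_cancel h1
    have h3 : eD * (f * Q) = eA * (f * Q) := by
      calc eD * (f * Q) = eD * (f * Q) * (d * d) := by rw [hdd, mul_one]
        _ = eD * (f * Q * d) * d := by group
        _ = a * d * a * d := by rw [← hdfq, h]
        _ = a * (d * a * d) := by group
        _ = a * eA * a * (f * Q) := by rw [h2]; group
        _ = eA * (f * Q) := by rw [hae, mul_assoc eA, haa, mul_one]
    exact kne (mul_right_cancel h3)
  have main : (S * a * d) ^ 2 = 1 := by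
    have hSS : S * S = Q := kQ.symm
    calc (S * a * d) ^ 2 = a * (S * d) * (S * a) * d := by rw [pow_two, hSa]; group
      _ = a * d' * (S * (S * a)) * d := by rw [hSd]; group
      _ = a * d * (f * (Q * a)) * d := by rw [hd', ← mul_assoc S S, hSS]; group
      _ = a * d * (a * (f * Q)) * d := by rw [hQa, ← mul_assoc f a Q, hfa]; group
      _ = a * d * a * (f * Q * d) := by group
      _ = d * (f * Q) * (d * (f * Q)) := by rw [← hdfq, hy]
      _ = d * d * (f * Q * (f * Q)) := by rw [mul_assoc d, ← mul_assoc (f * Q), ← hdfq]; group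
      _ = 1 := by rw [hdd, hfq2, one_mul]
  set k1 := C.M.κ (el g1)
  set t := C.tOf τ DataTrio.g0i
  set u := C.M.κ (el cU2)
  have ea : a = k1 * t * k1⁻¹ := by
    simp only [haDef, t, Ctx.tOf, kA]; group
  have ed' : d = k1 * (u⁻¹ * t * u) * k1⁻¹ := by
    rw [show d = C.tOf τ cD0 from (F.tOf_eq hτ hr qD').symm]
    simp only [t, Ctx.tOf, kD, kU]
    group
  have eS : C.M.κ (el cS) = k1⁻¹ * S * k1 := by rw [mul_assoc, kS, inv_mul_cancel_left]
  have e : C.M.κ (el cS) * t * (u⁻¹ * t * u) = k1⁻¹ * (S * a * d) * (k1⁻¹)⁻¹ := by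
    rw [eS, ea, ed']; group
  rw [e, conj_pow, main]
  group

end Frame

end Cfsg.Agent.Lib.J4Uniq13
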