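import Cfsg.Agent.Lib.J4Uniq13.LocalCheck
import Cfsg.Agent.Lib.J4Seven.Fix
import Cfsg.Agent.S5573

/-!
# The centraliser of an element of order seven, as used for the relators
-/

set_option autoImplicit false
set_option linter.unusedSectionVars false

namespace Cfsg.Agent.Lib.J4Uniq13

open Cfsg Cfsg.Agent.Lib.J4Local
open Cfsg.Agent.Lib.LargeExtraspecial.Basic

variable {G : Type*} [Group G] [Finite G]

/-- An element in an internal direct product whose order is prime to seven lies in the second factor. -/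
theorem mem_right {A J C : Subgroup G} (h : Cfsg.IsInternalDirectProduct A J C) {x : G} (hx : x ∈ C)
    {n : ℕ} (hxn : x ^ n = 1) (hA : ∀ a ∈ A, a ^ n = 1 → a = 1) : x ∈ J := by
  obtain ⟨-, -, hcomm, hinf, rfl⟩ := h
  have hle : A ≤ Subgroup.normalizer (J : Set G) := fun a ha => Subgroup.centralizer_le_normalizer _
    (Subgroup.mem_centralizer_iff.mpr fun b hb => (hcomm a ha b hb).symm)
  rw [← SetLike.mem_coe, Subgroup.coe_mul_of_left_le_normalizer_right A J hle, Set.mem_mul] at hx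
  obtain ⟨a, ha, j, hj, rfl⟩ := hx
  have he : a ^ n * j ^ n = 1 := by rw [← (show Commute a j from hcomm a ha j hj).mul_pow, hxn]
  have h1 : a ^ n ∈ A ⊓ J := ⟨pow_mem ha n, by
    show a ^ n ∈ J
    rw [eq_inv_of_mul_eq_one_left he]
    exact inv_mem (pow_mem hj n)⟩
  rw [hinf, Subgroup.mem_bot] at h1
  rw [hA a ha h1, one_mul]
  exact hj

variable {z : G}

/-- The centraliser of an element of order seven has a second factor isomorphic to the symmetric group of
degree five. -/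
theorem exists_factor [IsSimpleGroup G] (hG : ¬ IsMulCommutative G) (hJ : Cfsg.IsOfJankoFourTypeAt z)
    {s : G} (hs : orderOf s = 7) : ∃ J : Subgroup G, Nonempty (↥J ≃* Equiv.Perm (Fin 5)) ∧
      ∀ x : G, Commute x s → ∀ n : ℕ, ¬ 7 ∣ n → x ^ n = 1 → x ∈ J := by
  haveI := Fact.mk (show Nat.Prime 7 by norm_num)
  obtain ⟨p, S⟩ := Setting.of_at hJ
  obtain ⟨s₀, hs₀⟩ := exists_prime_orderOf_dvd_card' (G := ↥(cz z)) 7 (by rw [S.card_cz autFacts]; norm_num)
  have hs₀' : orderOf (s₀ : G) = 7 :=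
    (orderOf_injective (cz z).subtype Subtype.coe_injective s₀).trans hs₀
  obtain ⟨h49, -⟩ := Cfsg.Agent.S5573.result hG z hJ (Subgroup.zpowers (s₀ : G))
    (by rw [Nat.card_zpowers, hs₀']) (Subgroup.zpowers_le.mpr s₀.2)
  obtain ⟨g, hg⟩ := J4Seven.conj_zpowers_seven h49 hs hs₀'
  have hs' : orderOf (g * s * g⁻¹) = 7 := (MulEquiv.orderOf_eq (MulAut.conj g) s).trans hs
  obtain ⟨-, ⟨I, hI, ⟨e⟩⟩, -⟩ := Cfsg.Agent.S5573.result hG z hJ (Subgroup.zpowers (g * s * g⁻¹))
    (by rw [Nat.card_zpowers, hs'])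
    (Subgroup.zpowers_le.mpr (Subgroup.zpowers_le.mpr s₀.2 hg))
  refine ⟨I.map (MulAut.conj g⁻¹).toMonoidHom,
    ⟨(I.equivMapOfInjective _ (MulAut.conj g⁻¹).injective).symm.trans e⟩, fun x hx n hn hxn => ?_⟩
  refine ⟨g * x * g⁻¹, mem_right hI ?_ (n := n) ?_ ?_, by simp [mul_assoc]⟩
  · rw [Subgroup.zpowers_eq_closure, Subgroup.centralizer_closure]
    exact mem_cz.mpr (hx.map (MulAut.conj g))
  · rw [conj_pow, hxn, mul_one, mul_inv_cancel]
  · intro a ha han
    refine orderOf_eq_one_iff.mp (Nat.dvd_one.mp ?_)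
    have h1 : orderOf a ∣ 7 := by
      have := orderOf_dvd_natCard (⟨a, ha⟩ : ↥(Subgroup.zpowers (g * s * g⁻¹)))
      rwa [Subgroup.orderOf_mk, Nat.card_zpowers, hs'] at this
    have hc : Nat.Coprime 7 n := (Nat.Prime.coprime_iff_not_dvd (by norm_num)).mpr hn
    exact hc ▸ Nat.dvd_gcd h1 (orderOf_dvd_of_pow_eq_one han)

/-- In the centraliser of an element of order seven, the configuration makes `t` commute with `r`. -/
theorem commute_three [IsSimpleGroup G] (hG : ¬ IsMulCommutative G) (hJ : Cfsg.IsOfJankoFourTypeAt z)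
    {s sg r v t : G} (hs : orderOf s = 7) (hsgs : Commute sg s) (hrs : Commute r s) (hvs : Commute v s)
    (hts' : Commute t s) (hsg : sg * sg = 1) (hsg1 : sg ≠ 1) (h3 : r * r * r = 1) (hr1 : r ≠ 1)
    (hsr : sg * r * sg = r⁻¹) (hv : v * v = 1) (hv1 : v ≠ 1) (hsv : sg * v = v * sg)
    (hvr : v * (r * v * r⁻¹) = r⁻¹ * v * r) (hvn : r * v * r⁻¹ ≠ v) (ht : t * t = 1) (ht1 : t ≠ 1)
    (hts : t * sg = sg * t) (htv : t * v ≠ v * t) (htv3 : (t * v) ^ 3 ≠ 1)
    (hA : r * t * r⁻¹ * (r⁻¹ * t * r) * (r * t * r⁻¹) ≠ sg)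
    (hB : r⁻¹ * t * r * (r * t * r⁻¹) * (r⁻¹ * t * r) ≠ sg)
    (hC : t * (r * t * r⁻¹) ≠ r) (hD : t * (r * t * r⁻¹) ≠ r⁻¹) : Commute t r := by
  obtain ⟨J, ⟨e⟩, hmem⟩ := exists_factor hG hJ hs
  have h2 : ∀ {x : G}, Commute x s → x * x = 1 → x ∈ J := fun hx h =>
    hmem _ hx 2 (by norm_num) (by rw [sq, h])
  set a : ↥J := ⟨sg, h2 hsgs hsg⟩ with ha
  set b : ↥J := ⟨r, hmem r hrs 3 (by norm_num) (by rw [pow_three, ← mul_assoc, h3])⟩ with hb
  set c : ↥J := ⟨v, h2 hvs hv⟩ with hc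
  set d : ↥J := ⟨t, h2 hts' ht⟩ with hd
  have inj : ∀ {x y : ↥J}, (x : G) ≠ y → e x ≠ e y := fun h he => h (congrArg Subtype.val (e.injective he))
  have eq : ∀ {x y : ↥J}, (x : G) = y → e x = e y := fun h => congrArg e (Subtype.ext h)
  have h := LocalCheck.commute_perm (sg := e a) (r := e b) (v := e c) (t := e d)
    (by simpa using eq (x := a * a) (y := 1) hsg)
    (by simpa using inj (x := a) (y := 1) hsg1)
    (by simpa using eq (x := b * b * b) (y := 1) h3)
    (by simpa using inj (x := b) (y := 1) hr1)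
    (by simpa using eq (x := a * b * a) (y := b⁻¹) hsr)
    (by simpa using eq (x := c * c) (y := 1) hv)
    (by simpa using inj (x := c) (y := 1) hv1)
    (by simpa using eq (x := a * c) (y := c * a) hsv)
    (by simpa using eq (x := c * (b * c * b⁻¹)) (y := b⁻¹ * c * b) hvr)
    (by simpa using inj (x := b * c * b⁻¹) (y := c) hvn)
    (by simpa using eq (x := d * d) (y := 1) ht)
    (by simpa using inj (x := d) (y := 1) ht1)
    (by simpa using eq (x := d * a) (y := a * d) hts)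
    (by simpa using inj (x := d * c) (y := c * d) htv)
    (by simpa only [pow_three, map_mul, map_one] using inj (x := d * c * (d * c * (d * c))) (y := 1) (fun h => htv3 ((pow_three _).trans h)))
    (by simpa using inj (x := b * d * b⁻¹ * (b⁻¹ * d * b) * (b * d * b⁻¹)) (y := a) hA)
    (by simpa using inj (x := b⁻¹ * d * b * (b * d * b⁻¹) * (b⁻¹ * d * b)) (y := a) hB)
    (by simpa using inj (x := d * (b * d * b⁻¹)) (y := b) hC)
    (by simpa using inj (x := d * (b * d * b⁻¹)) (y := b⁻¹) hD)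
  rw [← map_mul, ← map_mul] at h
  exact congrArg Subtype.val (e.injective h)

/-- The form with a common commuting element instead of the four inequalities. -/
theorem commute_three' [IsSimpleGroup G] (hG : ¬ IsMulCommutative G) (hJ : Cfsg.IsOfJankoFourTypeAt z)
    {s sg r v t e : G} (hs : orderOf s = 7) (hsgs : Commute sg s) (hrs : Commute r s) (hvs : Commute v s)
    (hts' : Commute t s) (hsg : sg * sg = 1) (hsg1 : sg ≠ 1) (h3 : r * r * r = 1) (hr1 : r ≠ 1)
    (hsr : sg * r * sg = r⁻¹) (hv : v * v = 1) (hv1 : v ≠ 1) (hsv : sg * v = v * sg)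
    (hvr : v * (r * v * r⁻¹) = r⁻¹ * v * r) (hvn : r * v * r⁻¹ ≠ v) (ht : t * t = 1) (ht1 : t ≠ 1)
    (hts : t * sg = sg * t) (htv : t * v ≠ v * t) (htv3 : (t * v) ^ 3 ≠ 1)
    (he : Commute t e) (he1 : Commute (r * t * r⁻¹) e) (he2 : Commute (r⁻¹ * t * r) e)
    (hes : ¬ Commute sg e) (her : ¬ Commute r e) : Commute t r := by
  refine commute_three hG hJ hs hsgs hrs hvs hts' hsg hsg1 h3 hr1 hsr hv hv1 hsv hvr hvn ht ht1 hts htv htv3
    (fun h => hes (h ▸ (he1.mul_left he2).mul_left he1)) (fun h => hes (h ▸ (he2.mul_left he1).mul_left he2))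
    (fun h => her (h ▸ he.mul_left he1)) fun h => her ?_
  have h' : Commute r⁻¹ e := h ▸ he.mul_left he1
  simpa using h'.inv_left

end Cfsg.Agent.Lib.J4Uniq13
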