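import Cfsg.Agent.Lib.J4Uniq13.TrioChecks
import Cfsg.Agent.Lib.J4Uniq13.Local

/-!
# The symmetric generator: it centralises the trio group and satisfies the first long relation
-/

set_option autoImplicit false
set_option linter.unusedSectionVars false
set_option maxRecDepth 20000

namespace Cfsg.Agent.Lib.J4Uniq13

open Cfsg Cfsg.Agent.Lib.Computation Cfsg.Agent.Lib.Golay Cfsg.Agent.Lib.J4Order
open DataTrio

attribute [local irreducible] mulP inM24 oneCode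

variable {G : Type*} [Group G] [Finite G] {z : G}

namespace Frame

variable {C : Ctx z} (F : Fr C)

/-- The symmetric generator exists. -/
theorem exists_tau : ∃ τ : G, F.Rep τ tauRep := by
  have h := tau_ok
  simp only [Bool.and_eq_true] at h
  obtain ⟨n, hn, hi⟩ := F.surj gTau gTau h.1.1.1 h.1.1.1 h.1.1.2 h.1.1.2
  exact ⟨n, F.rep_img (ggood_of h.1.1.1) hn hi⟩

variable {τ : G} (hτ : F.Rep τ tauRep)
include hτ

theorem tau_sq : τ * τ = 1 := by
  have h := tau_ok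
  simp only [Bool.and_eq_true] at h
  exact F.eq_of_reps (F.rep_mul hτ hτ) F.rep_one h.1.2

theorem tau_ne : τ ≠ 1 := by
  have h := tau_ok
  simp only [Bool.and_eq_true] at h
  exact F.ne_one hτ h.2

/-- The symmetric generator commutes with the element permuting the octads. -/
theorem commute_cr [IsSimpleGroup G] (hG : ¬ IsMulCommutative G)
    (hJ : Cfsg.IsOfJankoFourTypeAt z) : Commute τ (C.M.κ (el cr)) := by
  have hg := trio_good
  have hp := trio_perm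
  have hv := trio_vec
  have hr := trio_reps
  simp only [Bool.and_eq_true, Bool.not_eq_true', Nat.beq_eq, Nat.blt, Nat.ble_eq,
    ← Bool.not_eq_true] at hg hp hv hr
  obtain ⟨⟨⟨⟨⟨⟨⟨⟨⟨⟨⟨⟨⟨gs, gsg⟩, ge⟩, ge1⟩, ge2⟩, -⟩, -⟩, -⟩, -⟩, -⟩, -⟩, -⟩, -⟩, -⟩ := hg
  obtain ⟨⟨⟨⟨⟨⟨⟨⟨⟨⟨⟨⟨p7, ps1⟩, psgs⟩, prs⟩, psg2⟩, psg1⟩, pr3⟩, pr1⟩, psr⟩, pe1⟩, pe2⟩, pse⟩, pre⟩ := hp
  obtain ⟨⟨⟨⟨⟨v1, v0⟩, vs⟩, vsg⟩, vr⟩, vn⟩ := hv
  obtain ⟨⟨⟨⟨⟨⟨⟨⟨⟨⟨⟨⟨rs, rsg⟩, rv⟩, re⟩, re1⟩, re2⟩, ts⟩, tsg⟩, te⟩, te1⟩, te2⟩, tv2⟩, tv3⟩ := hr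
  replace gs := good_of_inM24 gs
  replace gsg := good_of_inM24 gsg
  replace ge := good_of_inM24 ge
  replace ge1 := good_of_inM24 ge1
  replace ge2 := good_of_inM24 ge2
  obtain ⟨-, -, gr, gri⟩ := good_cA
  have hm := marks_ok
  simp only [Bool.and_eq_true] at hm
  set s := C.M.κ (el cs)
  set sg := C.M.κ (el csg)
  set r := C.M.κ (el cr)
  set e := C.M.κ (el ce)
  have m : ∀ {a b : ℕ}, Good a → Good b → C.M.κ (el (mulP 24 5 a b)) = C.M.κ (el a) * C.M.κ (el b) :=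
    fun ha hb => C.kap_mul ha hb
  have eq2 : ∀ {a b c d : ℕ}, Good a → Good b → Good c → Good d →
      cEq (mulP 24 5 a b) (mulP 24 5 c d) = true →
      C.M.κ (el a) * C.M.κ (el b) = C.M.κ (el c) * C.M.κ (el d) := fun ha hb hc hd h => by
    rw [← m ha hb, ← m hc hd, C.kap_eq (good_mulP ha hb) (good_mulP hc hd) h]
  have ne1 : ∀ {a : ℕ}, Good a → ¬ cEq a oneCode = true → C.M.κ (el a) ≠ 1 := fun ha h =>
    C.kap_one ▸ C.kap_ne ha good_one (Bool.eq_false_iff.mpr h)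
  have ri : C.M.κ (el cri) = r⁻¹ := C.kap_inv gr gri hm.2
  have hs7 : orderOf s = 7 := by
    haveI : Fact (Nat.Prime 7) := ⟨by norm_num⟩
    refine orderOf_eq_prime ?_ (ne1 gs ps1)
    have g2 := good_mulP gs gs
    have g3 := good_mulP gs g2
    have g4 := good_mulP gs g3
    have g5 := good_mulP gs g4
    have g6 := good_mulP gs g5
    have h := C.kap_eq (good_mulP gs g6) good_one p7
    rw [m gs g6, m gs g5, m gs g4, m gs g3, m gs g2, m gs gs, C.kap_one] at h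
    simp only [pow_succ, pow_zero, one_mul, mul_assoc]
    exact h
  have hsg : sg * sg = 1 := by
    rw [← m gsg gsg, C.kap_eq (good_mulP gsg gsg) good_one psg2, C.kap_one]
  have h3 : r * r * r = 1 := by
    rw [mul_assoc, ← m gr gr, ← m gr (good_mulP gr gr),
      C.kap_eq (good_mulP gr (good_mulP gr gr)) good_one pr3, C.kap_one]
  have hsr : sg * r * sg = r⁻¹ := by
    rw [mul_assoc, ← m gr gsg, ← m gsg (good_mulP gr gsg),
      C.kap_eq (good_mulP gsg (good_mulP gr gsg)) gri psr, ri]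
  set w := C.M.ψ v
  have gv : NGood (v, oneCode) := ⟨v1, good_one⟩
  have cv : ∀ {c : ℕ}, Good c → C.M.κ (el c) * w * (C.M.κ (el c))⁻¹ = C.M.ψ (act c v) :=
    fun hc => C.M.conj_el hc v1
  have cs' : ∀ {c : ℕ}, Good c → act c v = v → Commute w (C.M.κ (el c)) := fun hc h => by
    have h1 := cv hc
    rw [h] at h1
    exact (mul_inv_eq_iff_eq_mul.mp h1).symm
  have wv : F.Rep w (certRep wV) := by
    have := F.rep_cert rv
    rwa [C.nv_psi] at this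
  have comm : ∀ {c : ℕ} {u : Cert}, certOk (0, c) u = true →
      aeq (amul tauRep (certRep u)) (amul (certRep u) tauRep) = true → Commute τ (C.M.κ (el c)) :=
    fun hu h => F.commute_of_reps hτ (F.rep_kap hu) h
  have hw2 : w * w = 1 := C.M.ψ_sq v
  have hw1 : w ≠ 1 := fun h => v0 (C.M.frame.inj v 0 v1 (by norm_num) (h.trans C.M.ψ_zero.symm))
  have hrw : r⁻¹ * w * r = C.M.ψ (act cri v) := by
    have := cv gri
    rwa [ri, inv_inv] at this
  have htw2 : (τ * w) ^ 2 ≠ 1 := F.ne_one (F.rep_pow (F.rep_mul hτ wv) 2) tv2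
  refine commute_three' hG hJ (e := e) (sg := sg) (v := w) hs7 (eq2 gsg gs gs gsg psgs)
    (eq2 gr gs gs gr prs) (cs' gs vs) (comm rs ts) hsg (ne1 gsg psg1) h3 (ne1 gr pr1) hsr hw2 hw1
    (cs' gsg vsg).symm.eq ?_ ?_ (F.tau_sq hτ) (F.tau_ne hτ) (comm rsg tsg).eq ?_
    (F.ne_one (F.rep_pow (F.rep_mul hτ wv) 3) tv3) (comm re te) ?_ ?_
    (fun h => pse (by
      by_contra hc
      refine C.kap_ne (good_mulP gsg ge) (good_mulP ge gsg) (Bool.eq_false_iff.mpr hc) ?_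
      rw [m gsg ge, m ge gsg]; exact h.eq))
    (fun h => pre (by
      by_contra hc
      refine C.kap_ne (good_mulP gr ge) (good_mulP ge gr) (Bool.eq_false_iff.mpr hc) ?_
      rw [m gr ge, m ge gr]; exact h.eq))
  · rw [cv gr, hrw, ← C.M.frame.mul v _ v1 (act_lt _ _), vr]
  · rw [cv gr]
    exact fun h => vn (C.M.frame.inj _ _ (act_lt _ _) v1 h)
  · intro h
    refine htw2 ?_
    rw [pow_two]
    calc τ * w * (τ * w) = τ * w * (w * τ) := by rw [← h]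
      _ = τ * (w * w) * τ := by group
      _ = 1 := by rw [hw2, mul_one, F.tau_sq hτ]
  · have h1 : r * C.M.κ (el ce1) = e * r := eq2 gr ge1 ge gr pe1
    have h2 : r * C.M.κ (el ce1) * r⁻¹ = e := by rw [h1]; group
    rw [← h2]
    exact (comm re1 te1).map (MulAut.conj r)
  · have h1 : r * e = C.M.κ (el ce2) * r := eq2 gr ge ge2 gr pe2
    have h2 : r⁻¹ * C.M.κ (el ce2) * r = e := by rw [mul_assoc, ← h1]; group
    rw [← h2]
    have := (comm re2 te2).map (MulAut.conj r⁻¹)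
    simpa using this

/-- The generator over the base trio and the first long relation. -/
theorem base_props (hr : Commute τ (C.M.κ (el cr))) :
    (C.tOf τ g0i) * (C.tOf τ g0i) = 1 ∧ Commute (C.tOf τ g0i) (C.M.κ (el cX)) ∧
      Commute (C.tOf τ g0i) (C.M.κ (el cT)) ∧
      (C.M.κ (el cY) * ((C.M.κ (el cU1))⁻¹ * C.tOf τ g0i * C.M.κ (el cU1))) ^ 3 = 1 := by
  have hg := trio_good
  simp only [Bool.and_eq_true] at hg
  obtain ⟨⟨⟨⟨⟨⟨⟨⟨⟨-, gg0⟩, gg0i⟩, gX2⟩, gT2⟩, gY2⟩, gX⟩, gT⟩, gY⟩, gU⟩ := hg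
  replace gg0 := good_of_inM24 gg0
  replace gg0i := good_of_inM24 gg0i
  replace gX2 := good_of_inM24 gX2
  replace gT2 := good_of_inM24 gT2
  replace gY2 := good_of_inM24 gY2
  replace gX := good_of_inM24 gX
  replace gT := good_of_inM24 gT
  replace gY := good_of_inM24 gY
  replace gU := good_of_inM24 gU
  have h := rel1_ok
  simp only [Bool.and_eq_true] at h
  obtain ⟨⟨⟨⟨⟨⟨⟨e0, eX⟩, eT⟩, eY⟩, tX'⟩, tT'⟩, wY⟩, c3⟩ := h
  set k := C.M.κ (el g0)
  have ki : C.M.κ (el g0i) = k⁻¹ := C.kap_inv gg0 gg0i e0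
  have e2 : ∀ {a b : ℕ}, Good a → Good b → cEq (mulP 24 5 a g0) (mulP 24 5 g0 b) = true →
      C.M.κ (el b) = k⁻¹ * C.M.κ (el a) * k := fun ha hb he => by
    rw [mul_assoc, ← C.kap_mul ha gg0, C.kap_eq (good_mulP ha gg0) (good_mulP gg0 hb) he,
      C.kap_mul gg0 hb, inv_mul_cancel_left]
  have et : C.tOf τ g0i = k⁻¹ * τ * k := by rw [Ctx.tOf, ki, inv_inv]
  have hc : ∀ {x : G}, Commute τ x → Commute (C.tOf τ g0i) (k⁻¹ * x * k) := fun hx => by
    rw [et]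
    simpa using hx.map (MulAut.conj k⁻¹)
  refine ⟨?_, e2 gX2 gX eX ▸ hc (F.commute_tau hτ hr tX'),
    e2 gT2 gT eT ▸ hc (F.commute_tau hτ hr tT'), ?_⟩
  · rw [et]
    calc k⁻¹ * τ * k * (k⁻¹ * τ * k) = k⁻¹ * (τ * τ) * k := by group
      _ = 1 := by rw [F.tau_sq hτ]; group
  · set u := C.M.κ (el cU1)
    have hy := C.kap_eq (good_mulP gY2 (good_mulP gg0 gU)) (good_mulP (good_mulP gg0 gU) gY) eY
    rw [C.kap_mul gY2 (good_mulP gg0 gU), C.kap_mul gg0 gU, C.kap_mul (good_mulP gg0 gU) gY,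
      C.kap_mul gg0 gU] at hy
    have hy' : C.M.κ (el cY) = (k * u)⁻¹ * C.M.κ (el cY2) * (k * u) := by
      rw [mul_assoc, hy, inv_mul_cancel_left]
    have h3 : (C.M.κ (el cY2) * τ) ^ 3 = 1 :=
      F.eq_of_reps (F.rep_pow (F.rep_mul (F.rep_kap wY) hτ) 3) F.rep_one c3
    calc (C.M.κ (el cY) * (u⁻¹ * C.tOf τ g0i * u)) ^ 3
        = ((k * u)⁻¹ * (C.M.κ (el cY2) * τ) * ((k * u)⁻¹)⁻¹) ^ 3 := by rw [et, hy']; group
      _ = 1 := by rw [conj_pow, h3]; group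

end Frame

end Cfsg.Agent.Lib.J4Uniq13
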