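import Cfsg.Agent.Lib.J4Uniq13.Flip
import Cfsg.Agent.Lib.J4Uniq13.FrameExists
import Cfsg.Agent.Lib.J4Uniq13.Trio
import Cfsg.Agent.Lib.J4Uniq13.Rel2
import Cfsg.Agent.Lib.J4Uniq13.CentCheck

/-!
# A symmetric generator exists in every group of Janko-four type
-/

set_option autoImplicit false

namespace Cfsg.Agent.Lib.J4Uniq13

open Cfsg Cfsg.Agent.Lib.J4Order Cfsg.Agent.Lib.Computation Cfsg.Agent.Lib.Golay

/-- The symmetric generator over a suitable complement. -/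
theorem exists_sym {G : Type*} [Group G] [Finite G] [IsSimpleGroup G] {z : G}
    (hG : ¬ IsMulCommutative G) (hJ : Cfsg.IsOfJankoFourTypeAt z) :
    ∃ M : NModel z, ∃ t : G, Sym M t := by
  obtain ⟨p, S, M, hMV, hF⟩ := exists_fus_false hG hJ
  obtain ⟨C, rfl, hO⟩ := exists_ctx hG S M hMV
  obtain ⟨F⟩ := exists_frame C hO hF
  obtain ⟨τ, hτ⟩ := F.exists_tau
  have hr := F.commute_cr hτ hG hJ
  have hsq := F.tau_sq hτ
  obtain ⟨h1, h2, h3, h4⟩ := F.base_props hτ hr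
  refine ⟨C.M, C.tOf τ DataTrio.g0i, h1, h2, h3, h4, F.rel2 hτ hsq hr fun x hx => ?_⟩
  have hd : (DataCent.d, oneCode) ∈ DataCent.T := by decide +kernel
  refine CentCheck.mem_of_commute C.M ?_ hx
  have h := hx _ hd
  rwa [show C.M.ev DataCent.d (el oneCode) = C.M.ψ DataCent.d from C.nv_psi _] at h

end Cfsg.Agent.Lib.J4Uniq13
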