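import Cfsg.Agent.Lib.J4Order.Labels
import Cfsg.Agent.S5567

/-!
# The complement with the fixed-point-free involutions in the second class

Twisting the complement by the cocycle `σ ↦ {∞, σ ∞}` exchanges the two labels of the fixed-point-free
involutions and keeps the others.
-/

set_option autoImplicit false
set_option linter.unusedSectionVars false

namespace Cfsg.Agent.Lib.J4Uniq13

open Cfsg Cfsg.Agent.Lib.Golay Cfsg.Agent.Lib.Computation Cfsg.Agent.Lib.J4Local Cfsg.Agent.Lib.J4Big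
open Cfsg.Agent.Lib.J4Big.Cocode Cfsg.Agent.Lib.J4Order
open Cfsg.Agent.Lib.J4Order.AtCalc Cfsg.Agent.Lib.J4Order.AtData

/-- The value of the cocycle at the two standard involutions and its effect on the two families. -/
theorem twist_ok : piL.getD (getW 5 stdA 23) 0 = 1 ∧ piL.getD (getW 5 stdB 23) 0 = 1 ∧ outB = 1 ∧
    xA.contains 1 = true ∧ yA.contains (1 ^^^ outA) = true := by
  decide +kernel

variable {G : Type*} [Group G] {z : G} (M : NModel z)

theorem conj_pt (σ : ↥M24) (b : GolayPt) :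
    M.κ σ * Pt M.ψ b * (M.κ σ)⁻¹ = Pt M.ψ ((σ : Equiv.Perm GolayPt) none) * Pt M.ψ ((σ : Equiv.Perm GolayPt) b) := by
  have h := M.rel σ none b
  rwa [M.frame.pt_none, one_mul] at h

/-- The twisted complement. -/
noncomputable def flipHom : ↥M24 →* G where
  toFun σ := Pt M.ψ ((σ : Equiv.Perm GolayPt) none) * M.κ σ
  map_one' := by simp [M.frame.pt_none]
  map_mul' σ τ := by
    have h := mul_inv_eq_iff_eq_mul.mp (conj_pt M σ ((τ : Equiv.Perm GolayPt) none))
    rw [map_mul, Subgroup.coe_mul, Equiv.Perm.mul_apply]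
    symm
    calc Pt M.ψ ((σ : Equiv.Perm GolayPt) none) * M.κ σ * (Pt M.ψ ((τ : Equiv.Perm GolayPt) none) * M.κ τ)
        = Pt M.ψ ((σ : Equiv.Perm GolayPt) none) * (M.κ σ * Pt M.ψ ((τ : Equiv.Perm GolayPt) none)) * M.κ τ := by
          simp only [mul_assoc]
      _ = _ := by
          rw [h]
          simp only [← mul_assoc, M.frame.pt_sq, one_mul]

/-- The twisted model. -/
noncomputable def flip : NModel z where
  V := M.V
  ψ := M.ψ
  κ := flipHom M
  frame := M.frame
  rel σ a b := by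
    show Pt M.ψ ((σ : Equiv.Perm GolayPt) none) * M.κ σ * (Pt M.ψ a * Pt M.ψ b) *
      (Pt M.ψ ((σ : Equiv.Perm GolayPt) none) * M.κ σ)⁻¹ = _
    set w := Pt M.ψ ((σ : Equiv.Perm GolayPt) none)
    set x := Pt M.ψ ((σ : Equiv.Perm GolayPt) a) * Pt M.ψ ((σ : Equiv.Perm GolayPt) b)
    have hx : w * x = x * w := M.frame.comm (M.frame.pt_mem _) (mul_mem (M.frame.pt_mem _) (M.frame.pt_mem _))
    calc w * M.κ σ * (Pt M.ψ a * Pt M.ψ b) * (w * M.κ σ)⁻¹
        = w * (M.κ σ * (Pt M.ψ a * Pt M.ψ b) * (M.κ σ)⁻¹) * w⁻¹ := by group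
      _ = w * x * w⁻¹ := by rw [M.rel σ a b]
      _ = x := by rw [hx, mul_inv_cancel_right]
  mem_norm σ := mul_mem (Subgroup.le_normalizer (M.frame.pt_mem _)) (M.mem_norm σ)
  decomp n hn := by
    obtain ⟨v, hv, σ, rfl⟩ := M.decomp n hn
    refine ⟨v * (Pt M.ψ ((σ : Equiv.Perm GolayPt) none))⁻¹, mul_mem hv (inv_mem (M.frame.pt_mem _)), σ, ?_⟩
    show v * M.κ σ = _ * (Pt M.ψ ((σ : Equiv.Perm GolayPt) none) * M.κ σ)
    rw [← mul_assoc, inv_mul_cancel_right]
  cent_le := M.cent_le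

theorem flip_ev {a : ℕ} (ha : a < 2048) {c : ℕ} (hc : Good c) :
    (flip M).ev a (el c) = M.ev (a ^^^ piL.getD (getW 5 c 23) 0) (el c) := by
  show M.ψ a * (Pt M.ψ ((el c : Equiv.Perm GolayPt) none) * M.κ (el c)) = _
  rw [el_coe hc.2, Pt, piV, idx_gperm hc.1, NModel.ev, M.frame.mul a _ ha (piL_getD_lt _), mul_assoc]
  rfl

variable [Finite G]

/-- The twist keeps the eight-point labels and exchanges the fixed-point-free ones. -/
theorem fus_flip {o : Bool} (F : Fus M o) : Fus (flip M) !o := by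
  obtain ⟨hA, hB, hout, hxA, hyA⟩ := twist_ok
  have hL := M.lists_std o F (k := 1) (by norm_num)
  have gA : Good stdA := NModel.good_std (k := 1) (by norm_num)
  have gB : Good stdB := NModel.good_std (k := 2) (by norm_num)
  have houtA : outA < 2048 := by decide
  refine ⟨F.ord_z, ?_, ?_, ?_, ?_⟩
  · rw [flip_ev M zero_lt_2048 gA, hA, Nat.zero_xor]
    exact ((hL.memz 1).mp (List.contains_iff_mem.mp hxA)).2
  · rw [flip_ev M houtA gA, hA, Nat.xor_comm]
    exact ((hL.memt _).mp (List.contains_iff_mem.mp hyA)).2.2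
  · rw [flip_ev M zero_lt_2048 gB, hB, Nat.zero_xor]
    have := F.qB
    rw [hout] at this
    cases o <;> simpa using this
  · rw [flip_ev M (by rw [hout]; norm_num) gB, hB, hout]
    have := F.pB
    cases o <;> simpa using this

/-- A model over the standard `2^11` whose fixed-point-free involutions of the complement are in the second
class. -/
theorem exists_fus_false [IsSimpleGroup G] (hG : ¬ IsMulCommutative G) (hJ : Cfsg.IsOfJankoFourTypeAt z) :
    ∃ p, ∃ S : J4Local.Setting z p, ∃ M : J4Order.NModel z,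
      M.V = vv S J4Big.Cert2.normConfig.toBigConfig ∧ J4Order.Fus M false := by
  obtain ⟨p, S⟩ := Setting.of_at hJ
  have F := autFacts
  obtain ⟨hc, h2, -⟩ := vv_facts S F Cert2.normConfig.toBigConfig
  obtain ⟨-, K, -, hKV, hsup, -⟩ := Cfsg.Agent.S5567.result hG ⟨z, hJ⟩ _
    ⟨⟨⟨fun a b => Subtype.ext (comm_of_sq h2 a.2 b.2)⟩⟩,
    fun v hv => by rw [pow_two]; exact h2 v hv⟩ hc
  have hE := S.exists_fused hG F
  obtain ⟨M, hMV, h7⟩ := exists_nModel_seven S F Cert2.normConfig Cert2.meetConfig hE hKV hsup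
  obtain ⟨o, hF⟩ := M.exists_fus S F Cert2.normConfig hMV h7 hE Cert2.meetConfig
  cases o with
  | false => exact ⟨p, S, M, hMV, hF⟩
  | true => exact ⟨p, S, flip M, hMV, fus_flip M hF⟩

end Cfsg.Agent.Lib.J4Uniq13
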