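import Cfsg.Agent.Lib.J4Uniq13.Sym
import Cfsg.Agent.Lib.J4Uniq13.BridgeA
import Cfsg.Agent.Lib.J4Recog76.Row
import Cfsg.Agent.Lib.J4Order.AtPairs
import Cfsg.Agent.Lib.J4Order.CardEq
import Cfsg.Agent.S1703

/-!
# A group with a symmetric generator is the presented group

The relators of the presentation hold for `κ x`, `κ y`, `t`; the homomorphism is injective because the
presented group is simple, and surjective by the orders.
-/

set_option autoImplicit false
set_option linter.unusedSectionVars false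

namespace Cfsg.Agent.Lib.J4Uniq13

open Cfsg Cfsg.Agent.Lib.Golay Cfsg.Agent.Lib.Computation Cfsg.Agent.Lib.J4Order

/-- Code of the inverse of y. -/
def cYi : Nat := 962738135003437944731000646771591211

/-- The codes of the three letters. -/
def letterC : ℕ → ℕ
  | 0 => cX
  | 1 => cY
  | _ => cYi

/-- The code of a word. -/
def wordC : List ℕ → ℕ
  | [] => oneCode
  | a :: l => mulP 24 5 (letterC a) (wordC l)

/-- The word of yxy(xy⁻¹)²(xy)³. -/
def lT : List ℕ := [1, 0, 1] ++ ((List.replicate 2 [0, 2]).flatten ++ (List.replicate 3 [0, 1]).flatten)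

/-- The word of yxy⁻¹xyxy⁻¹x. -/
def lU1 : List ℕ := [1, 0, 2, 0, 1, 0, 2, 0]

/-- The word of (yxyxyxy)³. -/
def lS : List ℕ := (List.replicate 3 [1, 0, 1, 0, 1, 0, 1]).flatten

/-- The word of (xy)³y(xy)⁶y. -/
def lU2 : List ℕ :=
  (List.replicate 3 [0, 1]).flatten ++ ([1] ++ ((List.replicate 6 [0, 1]).flatten ++ [1]))

/-- The words of the relators of M24 on x, y. -/
def rels24 : List (List ℕ) :=
  [[0, 0], (List.replicate 3 [1]).flatten, (List.replicate 23 [0, 1]).flatten,
    (List.replicate 12 [0, 2, 0, 1]).flatten, (List.replicate 5 [0, 2, 0, 2, 0, 1, 0, 1]).flatten,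
    (List.replicate 4 ([0, 1] ++ (List.replicate 3 [0, 1, 0, 2]).flatten)).flatten,
    (List.replicate 3 [0, 1, 0, 1, 0, 2]).flatten ++ (List.replicate 3 [0, 1, 0, 2, 0, 2]).flatten]

theorem codes_ok : inM24 cX = true ∧ inM24 cY = true ∧ inM24 cYi = true ∧
    mulP 24 5 cY cYi = oneCode ∧ (rels24.all fun l => Nat.beq (wordC l) oneCode) = true ∧
    wordC lT = cT ∧ wordC lU1 = cU1 ∧ wordC lS = cS ∧ wordC lU2 = cU2 ∧ getW 5 cX 0 ≠ 0 := by
  decide +kernel

/-- The word in the group. -/
noncomputable def wEl (l : List ℕ) : ↥M24 := (l.map fun a => el (letterC a)).prod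

theorem good_letter (a : ℕ) : Good (letterC a) := by
  obtain ⟨hx, hy, hyi, -⟩ := codes_ok
  rcases a with _ | _ | a
  exacts [good_of_inM24 hx, good_of_inM24 hy, good_of_inM24 hyi]

theorem wordC_spec : ∀ l : List ℕ, Good (wordC l) ∧ el (wordC l) = wEl l
  | [] => ⟨good_one, by simp [wordC, wEl, el_one]⟩
  | a :: l => by
    obtain ⟨hg, he⟩ := wordC_spec l
    refine ⟨good_mulP (good_letter a) hg, ?_⟩
    rw [wordC, el_mul (good_letter a) hg, he]
    simp [wEl]

theorem wEl_append (l m : List ℕ) : wEl (l ++ m) = wEl l * wEl m := by simp [wEl]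

theorem wEl_pow (l : List ℕ) : ∀ n : ℕ, wEl (List.replicate n l).flatten = wEl l ^ n
  | 0 => by simp [wEl]
  | n + 1 => by rw [List.replicate_succ, List.flatten_cons, wEl_append, wEl_pow l n, pow_succ']

theorem rel24 {l : List ℕ} (h : l ∈ rels24) : wEl l = 1 := by
  have := List.all_eq_true.mp codes_ok.2.2.2.2.1 l h
  rw [Nat.beq_eq] at this
  rw [← (wordC_spec l).2, this, el_one]

theorem el_cYi : el cYi = (el cY)⁻¹ := by
  obtain ⟨-, -, -, h, -⟩ := codes_ok
  refine eq_inv_of_mul_eq_one_right ?_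
  have gy : Good cY := good_letter 1
  have gi : Good cYi := good_letter 2
  rw [← el_mul gy gi, h, el_one]

theorem el_cX_sq : el cX * el cX = 1 := by
  have h := rel24 (l := [0, 0]) (by simp [rels24])
  simpa [wEl, letterC] using h

theorem el_cX_inv : (el cX)⁻¹ = el cX := inv_eq_of_mul_eq_one_right el_cX_sq

theorem el_cX_ne : el cX ≠ 1 := fun h => by
  have gx : Good cX := good_letter 0
  obtain ⟨hok, hmem⟩ := gx
  have e : gperm cX = gperm oneCode := by
    rw [gperm_oneCode, ← el_coe hmem]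
    exact congrArg Subtype.val h
  exact codes_ok.2.2.2.2.2.2.2.2.2 (Cfsg.Agent.Lib.FusionAlperin.MathieuCert.getW_eq_of_gperm hok
    okCode_oneCode e (by norm_num : 0 < 24))

section

variable {G : Type*} [Group G] {z : G} (M : NModel z)

theorem κ_el (l : List ℕ) :
    M.κ (wEl l) = (l.map fun a => M.κ (el (letterC a))).prod := by
  rw [wEl, map_list_prod, List.map_map]
  rfl

/-- The images of the generators. -/
noncomputable def gens (t : G) : Spor.J4.Gen → G
  | .x => M.κ (el cX)
  | .y => M.κ (el cY)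
  | .t => t

/-- The relators hold. -/
theorem rels_hold {t : G} (h : Sym M t) :
    ∀ r ∈ Spor.coxRelators Spor.J4.edges ∪ {r | r ∈ Spor.J4.extra},
      FreeGroup.lift (gens M t) r = 1 := by
  intro r hr
  rcases hr with ⟨a, ha, -⟩ | hr
  · simp [Spor.J4.edges, Spor.coxNodes] at ha
  have hxi : (M.κ (el cX))⁻¹ = M.κ (el cX) := by rw [← map_inv, el_cX_inv]
  have hyi : (M.κ (el cY))⁻¹ = M.κ (el cYi) := by rw [← map_inv, el_cYi]
  have one : ∀ {l}, l ∈ rels24 → M.κ (wEl l) = 1 := fun hl => by rw [rel24 hl, map_one]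
  obtain ⟨-, -, -, -, -, hT, hU1, hS, hU2, -⟩ := codes_ok
  have eT : M.κ (el cT) = M.κ (wEl lT) := by rw [← hT, (wordC_spec lT).2]
  have eU1 : M.κ (el cU1) = M.κ (wEl lU1) := by rw [← hU1, (wordC_spec lU1).2]
  have eS : M.κ (el cS) = M.κ (wEl lS) := by rw [← hS, (wordC_spec lS).2]
  have eU2 : M.κ (el cU2) = M.κ (wEl lU2) := by rw [← hU2, (wordC_spec lU2).2]
  have l1 : ∀ a, M.κ (wEl [a]) = M.κ (el (letterC a)) := fun a => by simp [wEl]
  have cx : t⁻¹ * M.κ (el cX) * t * M.κ (el cX) = 1 := by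
    rw [mul_assoc t⁻¹, ← h.commX.eq, mul_assoc, mul_assoc t, ← map_mul, el_cX_sq, map_one, mul_one,
      inv_mul_cancel]
  simp only [Spor.J4.extra, List.mem_cons, List.not_mem_nil, or_false, Set.mem_ofPred_eq] at hr
  rcases hr with rfl | rfl | rfl | rfl | rfl | rfl | rfl | rfl | rfl | rfl | rfl | rfl <;>
    simp only [map_mul, map_pow, map_inv, FreeGroup.lift_apply_of, gens, mul_inv_rev, hxi, hyi]
  · have := one (l := [0, 0]) (by simp [rels24])
    simpa [κ_el, letterC, sq] using this
  · have := one (l := (List.replicate 3 [1]).flatten) (by simp [rels24])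
    simpa only [wEl_pow, map_pow, κ_el, List.map_cons, List.map_nil, List.prod_cons, List.prod_nil,
      letterC, mul_one] using this
  · have := one (l := (List.replicate 23 [0, 1]).flatten) (by simp [rels24])
    simpa only [wEl_pow, map_pow, κ_el, List.map_cons, List.map_nil, List.prod_cons, List.prod_nil,
      letterC, mul_one] using this
  · have := one (l := (List.replicate 12 [0, 2, 0, 1]).flatten) (by simp [rels24])
    simpa only [wEl_pow, map_pow, κ_el, List.map_cons, List.map_nil, List.prod_cons, List.prod_nil,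
      letterC, mul_one, mul_assoc] using this
  · have := one (l := (List.replicate 5 [0, 2, 0, 2, 0, 1, 0, 1]).flatten) (by simp [rels24])
    simpa only [wEl_pow, map_pow, κ_el, List.map_cons, List.map_nil, List.prod_cons, List.prod_nil,
      letterC, mul_one, mul_assoc] using this
  · have := one (l := (List.replicate 4 ([0, 1] ++ (List.replicate 3 [0, 1, 0, 2]).flatten)).flatten)
      (by simp [rels24])
    rw [wEl_pow, wEl_append, wEl_pow, map_pow, map_mul, map_pow] at this
    simpa only [κ_el, List.map_cons, List.map_nil, List.prod_cons, List.prod_nil,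
      letterC, mul_one, mul_assoc] using this
  · have := one (l := (List.replicate 3 [0, 1, 0, 1, 0, 2]).flatten ++
      (List.replicate 3 [0, 1, 0, 2, 0, 2]).flatten) (by simp [rels24])
    rw [wEl_append, wEl_pow, wEl_pow, map_mul, map_pow, map_pow] at this
    simpa only [κ_el, List.map_cons, List.map_nil, List.prod_cons, List.prod_nil,
      letterC, mul_one, mul_assoc] using this
  · rw [sq, h.tt]
  · have hw : M.κ (el cY) * M.κ (el cX) * M.κ (el cY) * (M.κ (el cX) * M.κ (el cYi)) ^ 2 *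
        (M.κ (el cX) * M.κ (el cY)) ^ 3 = M.κ (el cT) := by
      rw [eT, lT]
      simp only [wEl_append, wEl_pow, map_mul, map_pow]
      simp only [κ_el, List.map_cons, List.map_nil, List.prod_cons, List.prod_nil, letterC, mul_one,
        mul_assoc]
    have hgoal : t⁻¹ * (M.κ (el cT))⁻¹ * t * M.κ (el cT) = 1 := by
      rw [mul_assoc (t⁻¹ * _) t, h.commT.eq]
      group
    rw [← hw] at hgoal
    simpa only [mul_inv_rev, hxi, hyi, mul_assoc] using hgoal
  · exact cx
  · have hw : M.κ (el cY) * M.κ (el cX) * M.κ (el cYi) * M.κ (el cX) * M.κ (el cY) * M.κ (el cX) *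
        M.κ (el cYi) * M.κ (el cX) = M.κ (el cU1) := by
      rw [eU1, lU1]
      simp only [κ_el, List.map_cons, List.map_nil, List.prod_cons, List.prod_nil, letterC, mul_one,
        mul_assoc]
    have hgoal := h.rel1
    rw [← hw] at hgoal
    simpa only [mul_inv_rev, hxi, hyi, mul_assoc] using hgoal
  · have hwS : (M.κ (el cY) * M.κ (el cX) * M.κ (el cY) * M.κ (el cX) * M.κ (el cY) * M.κ (el cX) *
        M.κ (el cY)) ^ 3 = M.κ (el cS) := by
      rw [eS, lS, wEl_pow, map_pow]
      simp only [κ_el, List.map_cons, List.map_nil, List.prod_cons, List.prod_nil, letterC, mul_one,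
        mul_assoc]
    have hwU : (M.κ (el cX) * M.κ (el cY)) ^ 3 * M.κ (el cY) * (M.κ (el cX) * M.κ (el cY)) ^ 6 *
        M.κ (el cY) = M.κ (el cU2) := by
      rw [eU2, lU2]
      simp only [wEl_append, wEl_pow, map_mul, map_pow]
      simp only [κ_el, List.map_cons, List.map_nil, List.prod_cons, List.prod_nil, letterC, mul_one,
        mul_assoc]
    have hgoal := h.rel2
    rw [← hwS, ← hwU] at hgoal
    simpa only [mul_inv_rev, hxi, hyi, mul_assoc] using hgoal

/-- The homomorphism from the presented group. -/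
noncomputable def toG {t : G} (h : Sym M t) : Spor.J4 →* G :=
  PresentedGroup.toGroup (f := gens M t) (rels_hold M h)

variable [Finite G] [IsSimpleGroup G]

/-- A group of Janko-four type with a symmetric generator is the presented group. -/
theorem iso_of_sym (hG : ¬ IsMulCommutative G) (hJ : Cfsg.IsOfJankoFourTypeAt z) {t : G} (h : Sym M t) :
    Cfsg.Spor.IsoJ4 G := by
  obtain ⟨hsimple, hcard⟩ := Cfsg.Agent.S1703.result
  haveI := hsimple
  haveI : Finite Spor.J4 := Nat.finite_of_card_ne_zero (by rw [hcard]; norm_num)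
  have hinj : Function.Injective (toG M h) := by
    refine (MonoidHom.ker_eq_bot_iff _).mp (((inferInstance : (toG M h).ker.Normal).eq_bot_or_eq_top).resolve_right
      fun htop => ?_)
    have hx : PresentedGroup.of Spor.J4.Gen.x ∈ (toG M h).ker := htop ▸ Subgroup.mem_top _
    rw [MonoidHom.mem_ker, toG, PresentedGroup.toGroup.of] at hx
    exact el_cX_ne (M.meet (σ := el cX) (by
      rw [show M.κ (el cX) = 1 from hx]
      exact one_mem _))
  have hG' := Cfsg.Agent.Lib.J4Order.card_eq_of_type hG ⟨z, hJ⟩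
  exact ⟨(MulEquiv.ofBijective (toG M h)
    (hinj.bijective_of_nat_card_le (by rw [hG', hcard]))).symm⟩

end

/-- S1670 from the existence of a symmetric generator. -/
theorem row1670_of
    {G : Type*} [Group G] [Finite G] [IsSimpleGroup G]
    (hex : ¬ IsMulCommutative G → ∀ z : G, Cfsg.IsOfJankoFourTypeAt z → ∃ M : NModel z, ∃ t, Sym M t)
    (t : G) (ht : orderOf t = 2)
    (Q N M : Subgroup (Subgroup.centralizer ({t} : Set G))) [Q.Normal] [N.Normal] [M.Normal]
    (hQN : Q ≤ N) (hNM : N ≤ M) (hM : M.index = 2) (hQ : Cfsg.IsExtraspecial 2 Q)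
    (hcard : Nat.card Q = 2 ^ 13) (hN : Nat.card N = 3 * Nat.card Q) (hcent : ⁅M, N⁆ ≤ Q)
    (hperf : M ≤ ⁅M, M⁆ ⊔ Q)
    (h2c : Subgroup.centralizer (Q : Set (Subgroup.centralizer ({t} : Set G))) ≤ Q)
    (hout : ∀ c : Subgroup.centralizer ({t} : Set G), (∀ m ∈ M, c * m * c⁻¹ * m⁻¹ ∈ N) → c ∈ M)
    (hM22 : Cfsg.Spor.IsoM22 (M ⧸ N.subgroupOf M)) : Cfsg.Spor.IsoJ4 G := by
  obtain ⟨e⟩ := hM22
  have hJ := J4Recog76.isOfJankoFourTypeAt t ht Q N M hQN hNM hM hQ hcard hN hcent hperf h2c hout e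
  have hG := J4Recog76.not_comm t Q hcard
  obtain ⟨M', t', h⟩ := hex hG t hJ
  exact iso_of_sym M' hG hJ h

/-- S5585 from the existence of a symmetric generator. -/
theorem row5585_of
    {G : Type*} [Group G] [Finite G] [IsSimpleGroup G]
    (hex : ¬ IsMulCommutative G → ∀ z : G, Cfsg.IsOfJankoFourTypeAt z → ∃ M : NModel z, ∃ t, Sym M t)
    (hG : ¬ IsMulCommutative G) (τ : G)
    (Q N : Subgroup ↥(Subgroup.centralizer ({τ} : Set G))) [Q.Normal] [N.Normal]
    (hS : Cfsg.IsExtraspecialCentralizerSetting τ Q 6) (hQN : Q ≤ N)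
    (hN3 : Nat.card ↥N = 3 * Nat.card ↥Q)
    (hns : ∀ K : Subgroup ↥(Subgroup.centralizer ({τ} : Set G)), K ⊓ N = Q → K ⊔ N = ⊤ → False)
    (hAut : Nonempty (↥(Subgroup.centralizer ({τ} : Set G)) ⧸ N ≃* MulAut ↥Cfsg.Spor.M22)) :
    Cfsg.Spor.IsoJ4 G := by
  have hJ := bridge5585 τ Q N hS hQN hN3 hns hAut
  obtain ⟨M', t', h⟩ := hex hG τ hJ
  exact iso_of_sym M' hG hJ h

end Cfsg.Agent.Lib.J4Uniq13
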