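import Mathlib

/-!
# A finite fact about the symmetric group on five points
-/

set_option autoImplicit false

namespace Cfsg.Agent.Lib.J4Uniq13.LocalCheck

/-- The lists of five distinct numbers below five. -/
def all120 : List (List ℕ) :=
  ((List.range 5).flatMap fun a => (List.range 5).flatMap fun b => (List.range 5).flatMap fun c =>
    (List.range 5).flatMap fun d => (List.range 5).map fun e => [a, b, c, d, e]).filter fun l => l.dedup.length == 5

/-- The images of a permutation. -/
def enc (σ : Equiv.Perm (Fin 5)) : List ℕ := [(σ 0).val, (σ 1).val, (σ 2).val, (σ 3).val, (σ 4).val]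

/-- Composition on lists. -/
def mul5 (l m : List ℕ) : List ℕ := m.map fun i => l.getD i 9

/-- The identity. -/
def one5 : List ℕ := [0, 1, 2, 3, 4]

/-- The standard element of order three. -/
def r5 : List ℕ := [1, 2, 0, 3, 4]

/-- Its inverse. -/
def ri5 : List ℕ := [2, 0, 1, 3, 4]

/-- The check. -/
def check : Bool :=
  all120.all fun sg => !(mul5 sg sg == one5 && !(sg == one5) && mul5 (mul5 sg r5) sg == ri5) ||
    all120.all fun v => !(mul5 v v == one5 && !(v == one5) && mul5 sg v == mul5 v sg &&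
        mul5 v (mul5 (mul5 r5 v) ri5) == mul5 (mul5 ri5 v) r5 && !(mul5 (mul5 r5 v) ri5 == v)) ||
      all120.all fun t => !(mul5 t t == one5 && !(t == one5) && mul5 t sg == mul5 sg t &&
          !(mul5 t v == mul5 v t) && !(mul5 (mul5 (mul5 t v) (mul5 t v)) (mul5 t v) == one5) &&
          !(mul5 (mul5 (mul5 (mul5 r5 t) ri5) (mul5 (mul5 ri5 t) r5)) (mul5 (mul5 r5 t) ri5) == sg) &&
          !(mul5 (mul5 (mul5 (mul5 ri5 t) r5) (mul5 (mul5 r5 t) ri5)) (mul5 (mul5 ri5 t) r5) == sg) &&
          !(mul5 t (mul5 (mul5 r5 t) ri5) == r5) && !(mul5 t (mul5 (mul5 r5 t) ri5) == ri5)) ||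
        mul5 t r5 == mul5 r5 t

theorem check_ok : check = true := by decide +kernel

/-- Every element of order three is a conjugate of the standard one. -/
def checkConj : Bool :=
  all120.all fun l => !(mul5 (mul5 l l) l == one5 && !(l == one5)) ||
    all120.any fun g => mul5 g l == mul5 r5 g

theorem checkConj_ok : checkConj = true := by decide +kernel

theorem enc_mul (σ τ : Equiv.Perm (Fin 5)) : enc (σ * τ) = mul5 (enc σ) (enc τ) := by
  have h : ∀ i : Fin 5, (enc σ).getD i.val 9 = (σ i).val := fun i => by fin_cases i <;> rfl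
  simp only [mul5]
  rw [show enc τ = [(τ 0).val, (τ 1).val, (τ 2).val, (τ 3).val, (τ 4).val] from rfl]
  simp only [List.map_cons, List.map_nil, h]
  rfl

theorem enc_injective : Function.Injective enc := by
  intro σ τ h
  simp only [enc, List.cons.injEq, and_true] at h
  obtain ⟨h0, h1, h2, h3, h4⟩ := h
  refine Equiv.ext fun i => Fin.ext ?_
  fin_cases i <;> assumption

theorem enc_one : enc 1 = one5 := rfl

theorem enc_mem (σ : Equiv.Perm (Fin 5)) : enc σ ∈ all120 := by
  refine List.mem_filter.mpr ⟨?_, ?_⟩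
  · simp only [List.mem_flatMap, List.mem_map, List.mem_range]
    exact ⟨_, (σ 0).isLt, _, (σ 1).isLt, _, (σ 2).isLt, _, (σ 3).isLt, _, (σ 4).isLt, rfl⟩
  · have hnd : (enc σ).Nodup := by
      have : enc σ = (List.finRange 5).map fun i => (σ i).val := by
        simp [enc, List.finRange_succ]
      rw [this]
      exact (List.nodup_finRange 5).map fun a b e => σ.injective (Fin.ext e)
    rw [List.dedup_eq_self.mpr hnd]
    rfl

variable {sg r v t : Equiv.Perm (Fin 5)}

theorem exists_conj (h3 : r * r * r = 1) (h1 : r ≠ 1) : ∃ g, enc (g * r * g⁻¹) = r5 := by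
  have h := List.all_eq_true.mp checkConj_ok _ (enc_mem r)
  simp only [Bool.or_eq_true, Bool.not_eq_true', Bool.and_eq_false_imp, Bool.not_eq_false',
    List.any_eq_true, beq_iff_eq] at h
  rcases h with h | ⟨l, hl, e⟩
  · have h' := h (by rw [← enc_mul, ← enc_mul, h3, enc_one])
    exact absurd (enc_injective (h'.trans enc_one.symm)) h1
  · have hex : ∃ g, enc g = l := by
      obtain ⟨hl5, hd⟩ := List.mem_filter.mp hl
      simp only [List.mem_flatMap, List.mem_map, List.mem_range] at hl5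
      obtain ⟨a, ha, b, hb, c, hc, d, hd', e', he, rfl⟩ := hl5
      have hnd : [a, b, c, d, e'].Nodup := by
        rw [← List.dedup_eq_self]
        exact (List.dedup_sublist _).eq_of_length (by simpa using hd)
      let f : Fin 5 → Fin 5 := ![⟨a, ha⟩, ⟨b, hb⟩, ⟨c, hc⟩, ⟨d, hd'⟩, ⟨e', he⟩]
      have hf : List.ofFn (fun i => (f i).val) = [a, b, c, d, e'] := by simp [f, List.ofFn_succ]
      rw [← hf] at hnd
      have hinj : Function.Injective f := fun i j hij =>
        List.nodup_ofFn.mp hnd (congrArg Fin.val hij)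
      exact ⟨Equiv.ofBijective f (Finite.injective_iff_bijective.mp hinj), rfl⟩
    obtain ⟨g, rfl⟩ := hex
    refine ⟨g, ?_⟩
    have hr5 : enc (Equiv.swap (0 : Fin 5) 1 * Equiv.swap 1 2) = r5 := by decide
    rw [← hr5, ← enc_mul, ← enc_mul] at e
    rw [← hr5, enc_injective e, mul_inv_cancel_right]

/-- Under the relations of the configuration the two elements commute. -/
theorem commute_perm (hs : sg * sg = 1) (hs1 : sg ≠ 1) (h3 : r * r * r = 1) (hr1 : r ≠ 1)
    (hsr : sg * r * sg = r⁻¹) (hv : v * v = 1) (hv1 : v ≠ 1) (hsv : sg * v = v * sg)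
    (hvr : v * (r * v * r⁻¹) = r⁻¹ * v * r) (hvn : r * v * r⁻¹ ≠ v) (ht : t * t = 1) (ht1 : t ≠ 1)
    (hts : t * sg = sg * t) (htv : t * v ≠ v * t) (htv3 : (t * v) ^ 3 ≠ 1)
    (hA : r * t * r⁻¹ * (r⁻¹ * t * r) * (r * t * r⁻¹) ≠ sg)
    (hB : r⁻¹ * t * r * (r * t * r⁻¹) * (r⁻¹ * t * r) ≠ sg)
    (hC : t * (r * t * r⁻¹) ≠ r) (hD : t * (r * t * r⁻¹) ≠ r⁻¹) : t * r = r * t := by
  obtain ⟨g, hg⟩ := exists_conj h3 hr1
  set φ := (MulAut.conj g).toMonoidHom with hφ
  have hinj : Function.Injective φ := (MulAut.conj g).injective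
  have er : enc (φ r) = r5 := hg
  have eri : enc (φ r⁻¹) = ri5 := by
    have h : enc (φ (r * r)) = ri5 := by rw [map_mul, enc_mul, er]; rfl
    rw [inv_eq_of_mul_eq_one_right (show r * (r * r) = 1 by rw [← mul_assoc, h3])]
    exact h
  have eq1 : ∀ {a b : Equiv.Perm (Fin 5)}, a = b → (enc (φ a) == enc (φ b)) = true :=
    fun h => by rw [h]; exact beq_self_eq_true _
  have ne1 : ∀ {a b : Equiv.Perm (Fin 5)}, a ≠ b → (enc (φ a) == enc (φ b)) = false :=
    fun h => beq_false_of_ne fun e => h (hinj (enc_injective e))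
  have e1 : enc (φ 1) = one5 := by rw [map_one]; rfl
  have b1 := eq1 hs; have b2 := ne1 hs1; have b3 := eq1 hsr
  have c1 := eq1 hv; have c2 := ne1 hv1; have c3 := eq1 hsv; have c4 := eq1 hvr; have c5 := ne1 hvn
  have d1 := eq1 ht; have d2 := ne1 ht1; have d3 := eq1 hts; have d4 := ne1 htv
  have d5 := ne1 (show t * v * (t * v) * (t * v) ≠ 1 by rwa [pow_three, ← mul_assoc] at htv3)
  have d6 := ne1 hA; have d7 := ne1 hB; have d8 := ne1 hC; have d9 := ne1 hD
  simp only [map_mul, enc_mul, e1, er, eri] at b1 b2 b3 c1 c2 c3 c4 c5 d1 d2 d3 d4 d5 d6 d7 d8 d9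
  have h := List.all_eq_true.mp check_ok _ (enc_mem (φ sg))
  rw [b1, b2, b3] at h
  have h := List.all_eq_true.mp (by simpa only [Bool.not_true, Bool.not_false, Bool.and_self, Bool.and_true, Bool.true_and, Bool.false_or] using h) _ (enc_mem (φ v))
  rw [c1, c2, c3, c4, c5] at h
  have h := List.all_eq_true.mp (by simpa only [Bool.not_true, Bool.not_false, Bool.and_self, Bool.and_true, Bool.true_and, Bool.false_or] using h) _ (enc_mem (φ t))
  rw [d1, d2, d3, d4, d5, d6, d7, d8, d9] at h
  refine hinj (enc_injective ?_)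
  rw [map_mul, map_mul, enc_mul, enc_mul, er]
  simpa using h

end Cfsg.Agent.Lib.J4Uniq13.LocalCheck
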