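import Cfsg.Agent.Lib.J4Order.AtTypes
import Cfsg.Agent.Lib.J4Ten.Build

/-!
# The model of the standard `2^10` over a given model of the normaliser of the `2^11`
-/

set_option autoImplicit false
set_option linter.unusedSectionVars false

namespace Cfsg.Agent.Lib.J4Uniq13

open Cfsg Cfsg.Agent.Lib.J4Local Cfsg.Agent.Lib.J4Big

variable {G : Type*} [Group G] [Finite G] {z p : G}

/-- The model of the standard `2^10` with the same coordinates and the same complement. -/
theorem exists_ten [IsSimpleGroup G] (hG : ¬ IsMulCommutative G) (S : Setting z p)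
    (M : J4Order.NModel z) (hMV : M.V = vv S Cert2.normConfig.toBigConfig) :
    ∃ T : J4Ten.Model z, T.V = M.V ∧ T.ψ = M.ψ ∧ T.lift = M.κ ∧ T.Outer := by
  have F := autFacts
  have B := Cert2.normConfig
  have hE := S.exists_fused hG F
  have hD : J4Ten.duadSet z M.V = dV S B.toBigConfig := by rw [hMV]; rfl
  let T : J4Ten.Model z :=
    { V := M.V
      ψ := M.ψ
      frame := M.frame
      lift := M.κ
      lift_mem := M.mem_norm
      lift_rel := M.rel
      decomp := fun n hn => by
        obtain ⟨v, hv, σ, rfl⟩ := M.decomp n hn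
        refine ⟨σ, ?_⟩
        have h := (Subgroup.mem_normalizer_iff.mp (inv_mem (M.mem_norm σ)) v).mp hv
        rw [inv_inv] at h
        rwa [mul_assoc] at h
      cz_le := fun d hd => by
        rw [hD] at hd
        obtain ⟨χ, Hd, hd1⟩ := exists_frame_vv S F B hE hd
        rw [hMV]
        exact cent_t_le S F B Cert2.meetConfig hE Hd hd1
      unique := fun T => unique_in_sylow S F B.toBigConfig T }
  exact ⟨T, rfl, rfl, rfl, J4Ten.outer_model S F B Cert2.meetConfig hE T hMV⟩

end Cfsg.Agent.Lib.J4Uniq13
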