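import Cfsg.Agent.Lib.J4Uniq13.Calc
import Cfsg.Agent.Lib.J4Uniq13.Ten

/-!
# Evaluation of pairs (vector, code) in the normaliser of the `2^11`
-/

set_option autoImplicit false
set_option linter.unusedSectionVars false

namespace Cfsg.Agent.Lib.J4Uniq13

open Cfsg Cfsg.Agent.Lib.Computation Cfsg.Agent.Lib.Golay Cfsg.Agent.Lib.J4Order
open Cfsg.Agent.Lib.J4Big.Cocode (Pt piV piV_lt piL)

attribute [local irreducible] mulP inM24 oneCode

theorem leq_eq : ∀ {s t : List ℕ}, leq s t = true → s = t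
  | [], [], _ => rfl
  | [], _ :: _, h => by simp [leq] at h
  | _ :: _, [], h => by simp [leq] at h
  | a :: s, b :: t, h => by
    simp only [leq, Bool.and_eq_true, Nat.beq_eq] at h
    rw [h.1, leq_eq h.2]

theorem aeq_eq {p q : ℕ × List ℕ} (h : aeq p q = true) : p = q := by
  simp only [aeq, Bool.and_eq_true, Nat.beq_eq] at h
  exact Prod.ext h.1 (leq_eq h.2)

theorem el_congr {c d : ℕ} (hc : Good c) (hd : Good d) (h : cEq c d = true) : el c = el d := by
  simp only [cEq, List.all_eq_true, List.mem_range, Nat.beq_eq] at h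
  refine Subtype.ext (Equiv.ext fun q => idx_injective ?_)
  rw [el_coe hc.2, el_coe hd.2, idx_gperm hc.1, idx_gperm hd.1, h _ (idx_lt q)]

/-- An admissible pair, as a proposition. -/
def NGood (p : ℕ × ℕ) : Prop := p.1 < 2048 ∧ Good p.2

theorem ngood_of {p : ℕ × ℕ} (h : nOk p = true) : NGood p := by
  simp only [nOk, Bool.and_eq_true, Nat.blt, Nat.ble_eq] at h
  exact ⟨h.1, good_of_inM24 h.2⟩

theorem ngood_nmul {p q : ℕ × ℕ} (hp : NGood p) (hq : NGood q) : NGood (nmul p q) :=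
  ⟨Nat.xor_lt_two_pow (n := 11) hp.1 (act_lt _ _), good_mulP hp.2 hq.2⟩

theorem rC_good {i : ℕ} (hi : i < 16) : Good (J4Ten.rC i) :=
  ⟨(J4Ten.rC_spec hi).1, (J4Ten.rC_spec hi).2.1⟩

theorem ngood_chiP {a : ℕ} (ha : a < 1024) : NGood (chiP a) :=
  ⟨J4Ten.cV_lt _, rC_good (by omega)⟩

theorem good_cword {A B : ℕ} (hA : Good A) (hB : Good B) : ∀ w, Good (cword A B w)
  | [] => good_one
  | l :: w => by
    refine good_mulP ?_ (good_cword hA hB w)
    cases Nat.beq l 0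
    · exact hB
    · exact hA

/-- The two models over one group. -/
structure Ctx {G : Type*} [Group G] (z : G) where
  /-- The normaliser of the `2^11`. -/
  M : NModel z
  /-- The standard `2^10`. -/
  T : J4Ten.Model z
  hV : T.V = M.V
  hψ : T.ψ = M.ψ
  hκ : T.lift = M.κ

variable {G : Type*} [Group G] [Finite G] {z : G}

theorem exists_ctx [IsSimpleGroup G] {p : G} (hG : ¬ IsMulCommutative G) (S : J4Local.Setting z p)
    (M : NModel z) (hMV : M.V = J4Big.vv S J4Big.Cert2.normConfig.toBigConfig) :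
    ∃ C : Ctx z, C.M = M ∧ C.T.Outer := by
  obtain ⟨T, h1, h2, h3, h4⟩ := exists_ten hG S M hMV
  exact ⟨⟨M, T, h1, h2, h3⟩, rfl, h4⟩

namespace Ctx

variable (C : Ctx z)

/-- The element of a pair. -/
noncomputable def nv (p : ℕ × ℕ) : G := C.M.ev p.1 (el p.2)

theorem nv_mul {p q : ℕ × ℕ} (hp : NGood p) (hq : NGood q) :
    C.nv p * C.nv q = C.nv (nmul p q) := by
  rw [nv, nv, C.M.ev_mul hp.1 hq.1 hp.2, nv, nmul, el_mul hp.2 hq.2]

theorem nv_congr {p q : ℕ × ℕ} (hp : NGood p) (hq : NGood q) (h : neq' p q = true) :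
    C.nv p = C.nv q := by
  simp only [neq', Bool.and_eq_true, Nat.beq_eq] at h
  rw [nv, nv, h.1, el_congr hp.2 hq.2 h.2]

theorem nv_none : C.nv none' = 1 := by
  simp [nv, none', el_one, NModel.ev, C.M.ψ_zero]

theorem nv_psi (a : ℕ) : C.nv (a, oneCode) = C.M.ψ a := by
  simp [nv, el_one, NModel.ev]

theorem nv_el (c : ℕ) : C.nv (0, c) = C.M.κ (el c) := by
  simp [nv, NModel.ev, C.M.ψ_zero]

theorem rM_eq {i : ℕ} (hi : i < 16) : J4Ten.rM i = el (J4Ten.rC i) :=
  Subtype.ext (by rw [J4Ten.rM_val hi, el_coe (rC_good hi).2])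

/-- The members of the standard `2^10`. -/
theorem nv_chiP {a : ℕ} (ha : a < 1024) : C.nv (chiP a) = C.T.chi a := by
  rw [nv, chiP, NModel.ev, J4Ten.Model.chi, J4Ten.Model.rhat, C.hψ, C.hκ, rM_eq (by omega)]

/-- The twisted section. -/
theorem nv_twP {c : ℕ} (hc : Good c) : C.nv (twP c) = C.T.twist (el c) := by
  have hx : J4Ten.Data.x0 < 24 := by decide +kernel
  show _ = Pt C.T.ψ J4Ten.Model.base * Pt C.T.ψ ((el c : Equiv.Perm GolayPt) J4Ten.Model.base) *
    C.T.lift (el c)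
  rw [Pt, Pt, C.T.psi_mul (piV_lt _) (piV_lt _), ← J4Ten.duo_idx, C.hψ, C.hκ, el_coe hc.2,
    idx_gperm hc.1, J4Ten.Model.base, idx_pt hx]
  rfl

theorem ngood_twP {c : ℕ} (hc : Good c) : NGood (twP c) :=
  ⟨Nat.xor_lt_two_pow (n := 11) (piL_getD_lt _) (piL_getD_lt _), hc⟩

/-- A conjugation identity from the pairs. -/
theorem nv_conj {n p q : ℕ × ℕ} (hn : NGood n) (hp : NGood p) (hq : NGood q)
    (h : neq' (nmul n p) (nmul q n) = true) : C.nv n * C.nv p * (C.nv n)⁻¹ = C.nv q := by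
  rw [C.nv_mul hn hp, C.nv_congr (ngood_nmul hn hp) (ngood_nmul hq hn) h, ← C.nv_mul hq hn,
    mul_inv_cancel_right]

end Ctx

end Cfsg.Agent.Lib.J4Uniq13
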