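import Cfsg.Agent.Lib.J4Order.Model

/-!
# The symmetric generator over the complement of the `2^11`

`Sym M t`: the involution `t` commutes with the lifts of the two generators of a trio group and satisfies
the two long relations with the lifts of `x` and `y`.
-/

set_option autoImplicit false

namespace Cfsg.Agent.Lib.J4Uniq13

open Cfsg Cfsg.Agent.Lib.J4Order

/-- Code of x. -/
def cX : Nat := 376852489058296726079652316536101294

/-- Code of y. -/
def cY : Nat := 974415487607826092766648923708760108

/-- Code of yxy(xy⁻¹)²(xy)³. -/
def cT : Nat := 11852626091124589664572257901069559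

/-- Code of yxy⁻¹xyxy⁻¹x. -/
def cU1 : Nat := 849563800987466404185506823003549954

/-- Code of (yxyxyxy)³. -/
def cS : Nat := 874556375970753362915514618829226148

/-- Code of (xy)³y(xy)⁶y. -/
def cU2 : Nat := 598839713503033146934597721368772181

/-- The relations of the symmetric generator. -/
structure Sym {G : Type*} [Group G] {z : G} (M : NModel z) (t : G) : Prop where
  tt : t * t = 1
  commX : Commute t (M.κ (el cX))
  commT : Commute t (M.κ (el cT))
  rel1 : (M.κ (el cY) * ((M.κ (el cU1))⁻¹ * t * M.κ (el cU1))) ^ 3 = 1
  rel2 : (M.κ (el cS) * t * ((M.κ (el cU2))⁻¹ * t * M.κ (el cU2))) ^ 2 = 1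

end Cfsg.Agent.Lib.J4Uniq13
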