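import Cfsg.Agent.Lib.J4Uniq13.Elem
import Cfsg.Agent.Lib.J4Uniq13.Sym
import Cfsg.Agent.Lib.J4Uniq13.DataRel
import Cfsg.Agent.Lib.J4Uniq13.DataCent

/-!
# Checks for the second long relation
-/

set_option autoImplicit false
set_option maxRecDepth 20000

namespace Cfsg.Agent.Lib.J4Uniq13

open Cfsg.Agent.Lib.Computation Cfsg.Agent.Lib.Golay Cfsg.Agent.Lib.J4Order
open DataRel

/-- The coordinates of the second conjugate. -/
def dRep : ℕ × List ℕ := rtRep rD

/-- The coordinates of the line involution times the square of the coefficient. -/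
def fqRep : ℕ × List ℕ := amul (rtRep rF) (certRep wS12)

/-- The coordinates of the expected value. -/
def y0Rep : ℕ × List ℕ := amul dRep fqRep

/-- An entry of the list of pairs. -/
abbrev GenEntry : Type := ((ℕ × ℕ) × Cert) × ((ℕ × ℕ) × Cert) × ((ℕ × ℕ) × Cert) × ((ℕ × ℕ) × Cert)

/-- A pair fits. -/
def genOk (q : GenEntry) : Bool :=
  certOk q.1.1 q.1.2 && certOk q.2.1.1 q.2.1.2 && certOk q.2.2.1.1 q.2.2.1.2 &&
    certOk q.2.2.2.1 q.2.2.2.2 &&
    neq' (nmul (0, g2) q.1.1) (nmul q.2.1.1 (0, g2)) &&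
    neq' (nmul (0, g2) q.2.2.2.1) (nmul q.2.2.1.1 (0, g2)) &&
    aeq (amul (amul (rtRep rA2) (certRep q.2.1.2)) (rtRep rA2)) (certRep q.2.2.1.2)

/-- The coordinates of the pairs. -/
def gensRep : List ((ℕ × List ℕ) × (ℕ × List ℕ)) :=
  (rtRep rF, rtRep rF) :: gens.map fun q => (certRep q.1.2, certRep q.2.2.2.2)

/-- The product of pairs along a word. -/
def pairW : List ℕ → (ℕ × List ℕ) × (ℕ × List ℕ)
  | [] => (aone, aone)
  | i :: w => (amul (gensRep.getD i (aone, aone)).1 (pairW w).1,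
      amul (gensRep.getD i (aone, aone)).2 (pairW w).2)

/-- An element to be centralised fits. -/
def centOk (q : (List ℕ × List ℕ × Cert) × (ℕ × ℕ)) : Bool :=
  aeq (amul (amul dRep (pairW q.1.1).1) dRep) (pairW q.1.2.1).1 &&
    aeq (amul y0Rep (pairW q.1.2.1).2) (amul (pairW q.1.1).2 y0Rep) &&
    certOk q.2 q.1.2.2 && aeq (amul gq (pairW q.1.1).2) (amul (certRep q.1.2.2) gq)

/-- A candidate fits and is one of two values or excluded. -/
def candRelOk (q : ((ℕ × List ℕ) × Cert) × (ℕ × ℕ)) : Bool :=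
  certOk q.2 q.1.2 && aeq (amul gq q.1.1) (amul (certRep q.1.2) gq) && aeq (amul gqi gq) aone &&
    aeq (amul gqi (amul gq q.1.1)) q.1.1 &&
    (aeq q.1.1 aone || aeq q.1.1 (certRep wED) || ane (apow (amul q.1.1 y0Rep) 2) ||
      ane (apow (amul (amul q.1.1 y0Rep) (pairW wOrd).2) nOrd))

theorem relGens_ok : (gens.all genOk) = true := by decide +kernel

theorem relCents_ok : (Nat.beq cents.length DataCent.T.length &&
    (cents.zip DataCent.T).all centOk) = true := by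
  decide +kernel

theorem relCands_ok : (Nat.beq cands.length DataCent.L.length &&
    (cands.zip DataCent.L).all candRelOk) = true := by
  decide +kernel

theorem relOrd_ok : (aeq (apow (amul dRep (pairW wOrd).1) nOrd) aone &&
    gOk gq.2 && gOk gqi.2 && Nat.blt gq.1 1024 && Nat.blt gqi.1 1024 &&
    leq (gqi.2.map fun u => combine gq.2 u) idCols && leq (gq.2.map fun u => combine gqi.2 u) idCols) = true := by
  decide +kernel

theorem relGood : (inM24 g1 && inM24 g1i && inM24 cS1 && inM24 cS12 && inM24 cA1 && inM24 cA1i &&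
    inM24 cD0 && inM24 cU2i && inM24 g2 && inM24 g2i && inM24 cED && inM24 ck && inM24 cEA &&
    inM24 rD.1 && inM24 rD2.1 && inM24 rF.1 && inM24 rA2.1 && inM24 rF2.1 && inM24 cS && inM24 cU2 &&
    inM24 DataTrio.g0i) = true := by
  decide +kernel

theorem relPerm_ok : (cEq (mulP 24 5 g1 g1i) oneCode && cEq (mulP 24 5 cS1 g1) (mulP 24 5 g1 cS) &&
    cEq (mulP 24 5 g1 DataTrio.g0i) cA1 && cEq (mulP 24 5 cA1 cA1i) oneCode &&
    cEq (mulP 24 5 cU2 cU2i) oneCode &&
    cEq (mulP 24 5 (mulP 24 5 g1 cU2i) DataTrio.g0i) cD0 &&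
    cEq (mulP 24 5 cS1 cS1) cS12 && cEq (mulP 24 5 g2 g2i) oneCode &&
    cEq (mulP 24 5 ck cS12) (mulP 24 5 cS12 ck) && cEq (mulP 24 5 ck cED) (mulP 24 5 cEA ck) &&
    !cEq cED cEA) = true := by
  decide +kernel

theorem relTrio_ok : (tcOk (mulP 24 5 cA1i (mulP 24 5 cS1 cA1)) tSA && eqtOk cD0 rD.1 qD &&
    eqtOk (mulP 24 5 cS1 rD.1) rD2.1 qSD && eqtOk (mulP 24 5 cS1 rD2.1) rD.1 qSD2 &&
    eqtOk (mulP 24 5 g2 cA1) rA2.1 qA2 && eqtOk (mulP 24 5 g2 rF.1) rF2.1 qF2 &&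
    eqtOk (mulP 24 5 ck cA1) rD.1 qKA && eqtOk (mulP 24 5 ck rD.1) cA1 qKD &&
    eqtOk (mulP 24 5 ck rF.1) rF.1 qKF) = true := by
  decide +kernel

theorem relModel_ok : (rtOk rD && rtOk rD2 && rtOk rF && rtOk rA2 && rtOk rF2 &&
    certOk (0, cS12) wS12 && certOk (0, cED) wED &&
    aeq (amul dRep (rtRep rD2)) (rtRep rF) && aeq (amul fqRep fqRep) aone &&
    aeq (amul dRep fqRep) (amul fqRep dRep) &&
    aeq (amul (rtRep rA2) (rtRep rF2)) (amul (rtRep rF2) (rtRep rA2)) &&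
    aeq (amul dRep (certRep wED)) (amul (certRep wED) dRep)) = true := by
  decide +kernel

end Cfsg.Agent.Lib.J4Uniq13
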