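import Cfsg.Agent.Lib.J4Uniq13.Elem
import Cfsg.Agent.Lib.J4Uniq13.Sym

/-!
# Checks for the symmetric generator
-/

set_option autoImplicit false
set_option maxRecDepth 20000

namespace Cfsg.Agent.Lib.J4Uniq13

open Cfsg.Agent.Lib.Computation Cfsg.Agent.Lib.Golay Cfsg.Agent.Lib.J4Order
open DataTrio

theorem tau_ok : (gOk gTau && leq (gTau.map fun u => combine gTau u) idCols &&
    aeq (amul tauRep tauRep) aone && ane tauRep) = true := by
  decide +kernel

theorem trio_good : (inM24 cs && inM24 csg && inM24 ce && inM24 ce1 && inM24 ce2 && inM24 g0 &&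
    inM24 g0i && inM24 cX2 && inM24 cT2 && inM24 cY2 && inM24 cX && inM24 cT && inM24 cY &&
    inM24 cU1) = true := by
  decide +kernel

/-- The seventh power of a code. -/
def pow7 (c : ℕ) : ℕ :=
  mulP 24 5 c (mulP 24 5 c (mulP 24 5 c (mulP 24 5 c (mulP 24 5 c (mulP 24 5 c c)))))

theorem trio_perm : (cEq (pow7 cs) oneCode && !cEq cs oneCode &&
    cEq (mulP 24 5 csg cs) (mulP 24 5 cs csg) && cEq (mulP 24 5 cr cs) (mulP 24 5 cs cr) &&
    cEq (mulP 24 5 csg csg) oneCode && !cEq csg oneCode &&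
    cEq (mulP 24 5 cr (mulP 24 5 cr cr)) oneCode && !cEq cr oneCode &&
    cEq (mulP 24 5 csg (mulP 24 5 cr csg)) cri &&
    cEq (mulP 24 5 cr ce1) (mulP 24 5 ce cr) && cEq (mulP 24 5 cr ce) (mulP 24 5 ce2 cr) &&
    !cEq (mulP 24 5 csg ce) (mulP 24 5 ce csg) && !cEq (mulP 24 5 cr ce) (mulP 24 5 ce cr)) = true := by
  decide +kernel

theorem trio_vec : (Nat.blt v 2048 && !Nat.beq v 0 && Nat.beq (act cs v) v && Nat.beq (act csg v) v &&
    Nat.beq (v ^^^ act cr v) (act cri v) && !Nat.beq (act cr v) v) = true := by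
  decide +kernel

theorem trio_reps : (certOk (0, cs) wS && certOk (0, csg) wSg && certOk (v, oneCode) wV &&
    certOk (0, ce) wE && certOk (0, ce1) wE1 && certOk (0, ce2) wE2 &&
    aeq (amul tauRep (certRep wS)) (amul (certRep wS) tauRep) &&
    aeq (amul tauRep (certRep wSg)) (amul (certRep wSg) tauRep) &&
    aeq (amul tauRep (certRep wE)) (amul (certRep wE) tauRep) &&
    aeq (amul tauRep (certRep wE1)) (amul (certRep wE1) tauRep) &&
    aeq (amul tauRep (certRep wE2)) (amul (certRep wE2) tauRep) &&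
    ane (apow (amul tauRep (certRep wV)) 2) && ane (apow (amul tauRep (certRep wV)) 3)) = true := by
  decide +kernel

theorem rel1_ok : (cEq (mulP 24 5 g0 g0i) oneCode && cEq (mulP 24 5 cX2 g0) (mulP 24 5 g0 cX) &&
    cEq (mulP 24 5 cT2 g0) (mulP 24 5 g0 cT) &&
    cEq (mulP 24 5 cY2 (mulP 24 5 g0 cU1)) (mulP 24 5 (mulP 24 5 g0 cU1) cY) &&
    tcOk cX2 tX && tcOk cT2 tT && certOk (0, cY2) wY2 &&
    aeq (apow (amul (certRep wY2) tauRep) 3) aone) = true := by
  decide +kernel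

end Cfsg.Agent.Lib.J4Uniq13
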